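import Cfsg.Agent.Lib.Classical.DicksonSL
import Cfsg.Agent.Lib.Classical.DicksonAbstract

/-!
A subgroup of `SL(2, q)` meeting every conjugate of the upper unipotent group: the part it contains is
small or everything.
-/

set_option autoImplicit false
set_option linter.unusedSectionVars false

namespace Cfsg.Agent.Transfer.U3Min

open Matrix Cfsg.Agent.Grp.SL2 Cfsg.Agent.PSL2Spec Cfsg.Agent.Dickson

variable {K : Type*} [Field K] [Fintype K] (p : ℕ) [Fact p.Prime] [CharP K p]

local notation "SL₂" => Matrix.SpecialLinearGroup (Fin 2) K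
local notation "PSL₂" => Matrix.ProjectiveSpecialLinearGroup (Fin 2) K

theorem up_of_commute {y : SL₂} {s : K} (hs : s ≠ 0) (h : Commute y (up s)) :
    y.1 1 0 = 0 ∧ ∃ r, y = up r ∨ y = -up r := by
  have e0 := congrArg Subtype.val h.eq
  simp only [Matrix.SpecialLinearGroup.coe_mul] at e0
  have e00 := congrFun (congrFun e0 0) 0
  have e01 := congrFun (congrFun e0 0) 1
  simp [up, Matrix.mul_apply, Fin.sum_univ_two] at e00 e01
  have h10 : y.1 1 0 = 0 := e00.resolve_left hs
  exact ⟨h10, eq_pm_up' (commute_up_one_iff.2 ⟨h10, mul_left_cancel₀ hs (by linear_combination e01)⟩)⟩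
where
  eq_pm_up' {y : SL₂} (h : Commute y (up (1 : K))) : ∃ r, y = up r ∨ y = -up r := by
    obtain ⟨h1, h2⟩ := commute_up_one_iff.mp h
    have d := det_eq y
    rw [h1, h2, mul_zero, sub_zero] at d
    rcases mul_self_eq_one_iff.mp d with e | e
    · refine ⟨y.1 0 1, Or.inl (Subtype.ext ?_)⟩
      ext i j; fin_cases i <;> fin_cases j <;> simp [up, h1, h2, e]
    · refine ⟨-(y.1 0 1), Or.inr (Subtype.ext ?_)⟩
      rw [Matrix.SpecialLinearGroup.coe_neg]
      ext i j; fin_cases i <;> fin_cases j <;> simp [up, h1, h2, e]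

theorem proj_up_inj {r s : K} (h : proj (up r : SL₂) = proj (up s)) : r = s := by
  rcases proj_eq_iff.1 h with h | h <;>
    have e00 := congrFun (congrFun (congrArg Subtype.val h) 0) 0 <;>
    have e01 := congrFun (congrFun (congrArg Subtype.val h) 0) 1
  · simpa [up] using e01.symm
  · rw [Matrix.SpecialLinearGroup.coe_neg] at e00 e01
    simp [up] at e00 e01
    linear_combination r * e00 - e01

/-- The representatives of the points. -/
def rep : Option K → SL₂
  | none => 1
  | some z => ⟨!![z, -1; 1, 0], by simp [Matrix.det_fin_two]⟩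

theorem conj_up_lower (Z : SL₂) (r : K) : (Z * up r * Z⁻¹).1 1 0 = -(r * Z.1 1 0 ^ 2) := by
  show ((Z * up r * Z⁻¹ : SL₂) : Matrix (Fin 2) (Fin 2) K) 1 0 = _
  rw [Matrix.SpecialLinearGroup.coe_mul, Matrix.SpecialLinearGroup.coe_mul, Matrix.SpecialLinearGroup.coe_inv]
  simp [up, Matrix.adjugate_fin_two, Matrix.mul_apply, Fin.sum_univ_two]
  ring

theorem rep_inj {a b : Option K}
    (h : (((rep a)⁻¹ * rep b : SL₂) : Matrix (Fin 2) (Fin 2) K) 1 0 = 0) : a = b := by
  rw [Matrix.SpecialLinearGroup.coe_mul, Matrix.SpecialLinearGroup.coe_inv] at h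
  rcases a with _ | a <;> rcases b with _ | b
  · rfl
  · simp [rep] at h
  · simp [rep, Matrix.adjugate_fin_two] at h
  · simp [rep, Matrix.adjugate_fin_two, Matrix.mul_apply,
      Fin.sum_univ_two] at h
    rw [Option.some.injEq]
    linear_combination h

theorem unip_bound (Y : Subgroup SL₂) (hY : ∀ M : SL₂, ∃ s : K, s ≠ 0 ∧ M * up s * M⁻¹ ∈ Y) :
    (∀ s : K, (up s : SL₂) ∈ Y) ∨ (p = 2 ∧ Nat.card {s : K // (up s : SL₂) ∈ Y} ≤ 2) ∨
      (p = 3 ∧ Fintype.card K ≤ 9 ∧ Nat.card {s : K // (up s : SL₂) ∈ Y} ≤ 3) := by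
  classical
  have hp := (Fact.out : p.Prime)
  haveI : Fact p.Prime := ⟨hp⟩
  set L : Subgroup PSL₂ := Y.map proj with hL
  set D := (pslData (F := K) p).restrict L with hD
  choose s hs0 hsY using fun o : Option K => hY (rep o)
  let x : Option K → L := fun o => ⟨proj (rep o * up (s o) * (rep o)⁻¹), Subgroup.mem_map_of_mem _ (hsY o)⟩
  have hx1 : ∀ o, x o ≠ 1 := fun o h0 => by
    have h1 : proj (rep o * up (s o) * (rep o)⁻¹) = 1 := congrArg Subtype.val h0
    rw [map_mul, map_mul, map_inv, conj_eq_one_iff] at h1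
    refine hs0 o (proj_up_inj (r := s o) (s := 0) ?_)
    rw [h1, up_zero, map_one]
  have hxp : ∀ o, x o ^ p = 1 := fun o => Subtype.ext (by
    show proj (rep o * up (s o) * (rep o)⁻¹) ^ p = 1
    rw [← map_pow, conj_pow, up_pow, CharP.cast_eq_zero, zero_mul, up_zero, mul_one, mul_inv_cancel, map_one])
  choose P hP using fun o => D.exists_sylow hp (hx1 o) (hxp o)
  have hinj : Function.Injective P := by
    intro a b hab
    have h1 : x b ∈ D.T (x a) := by rw [← hP a, hab, hP b]; exact D.self _
    have h2 : Commute (rep b * up (s b) * (rep b)⁻¹) (rep a * up (s a) * (rep a)⁻¹) :=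
      mem_tor_iff.1 h1
    have h3 := (Commute.conj_iff (rep a)⁻¹).2 h2
    rw [inv_inv] at h3
    rw [show (rep a)⁻¹ * (rep a * up (s a) * (rep a)⁻¹) * rep a = up (s a) by group,
      show (rep a)⁻¹ * (rep b * up (s b) * (rep b)⁻¹) * rep a =
        (rep a)⁻¹ * rep b * up (s b) * ((rep a)⁻¹ * rep b)⁻¹ by group] at h3
    have h4 := (up_of_commute (hs0 a) h3).1
    rw [conj_up_lower, neg_eq_zero, mul_eq_zero] at h4
    exact rep_inj ((pow_eq_zero_iff two_ne_zero).1 (h4.resolve_left (hs0 b)))
  have hn : Fintype.card K + 1 ≤ Nat.card (Sylow p L) := by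
    refine le_trans (le_of_eq ?_) (Nat.card_le_card_of_injective P hinj)
    rw [Finite.card_option, Nat.card_eq_fintype_card]
  have hK := Fintype.one_lt_card (α := K)
  -- the Sylow subgroup on the first point
  have hmem : ∀ g : L, g ∈ (P none : Subgroup L) → ∃ r : K, (g : PSL₂) = proj (up r) := by
    intro g hg
    rw [hP] at hg
    obtain ⟨y, hy⟩ := proj_surjective (g : PSL₂)
    have h1 : (g : PSL₂) ∈ tor (proj (rep none * up (s none) * (rep none)⁻¹)) := hg
    rw [← hy, mem_tor_iff] at h1
    simp only [rep, one_mul, inv_one, mul_one] at h1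
    obtain ⟨r, e | e⟩ := (up_of_commute (hs0 none) h1).2
    · exact ⟨r, by rw [← hy, e]⟩
    · exact ⟨r, by rw [← hy, e, proj_neg]⟩
  choose r hr using fun g : (P none : Subgroup L) => hmem g.1 g.2
  have hrinj : Function.Injective r := fun a b hab => Subtype.ext (Subtype.ext (by rw [hr a, hr b, hab]))
  have hA : Nat.card {c : K // (up c : SL₂) ∈ Y} ≤ Nat.card (P none : Subgroup L) := by
    refine Nat.card_le_card_of_injective
      (fun c => ⟨⟨proj (up c.1), Subgroup.mem_map_of_mem _ c.2⟩, ?_⟩) fun a b hab =>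
        Subtype.ext (proj_up_inj (congrArg (fun z : (P none : Subgroup L) => ((z : L) : PSL₂)) hab))
    rw [hP]
    show proj (up c.1) ∈ tor (proj (rep none * up (s none) * (rep none)⁻¹))
    rw [mem_tor_iff]
    simp only [rep, one_mul, inv_one, mul_one]
    exact commute_up _ _
  have hnorm : ∀ Q : Sylow p L,
      Nat.card (Sylow p L) * Nat.card (Subgroup.normalizer ((Q : Subgroup L) : Set L)) = Nat.card L := fun Q => by
    rw [Q.card_eq_index_normalizer]; exact Subgroup.index_mul_card _
  rcases D.classify hp with h | ⟨a, ha, hap, h⟩ | ⟨a, ha, hap, hidx, -, -⟩ | ⟨a, ha, hap, h⟩ |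
    ⟨h12, -, hp'⟩ | ⟨-, -, hp'⟩ | ⟨h60, -, hp'⟩ | ⟨a, t, ha, hap, -, ht, -, hN, hX⟩
  · exact absurd (Subgroup.eq_bot_of_card_eq ⊤ (Subgroup.card_top.trans h) ▸ Subgroup.mem_top (x none))
      (fun h0 => hx1 none (Subgroup.mem_bot.1 h0))
  · exact absurd (hxp none) (D.semi_of_ne ha hap (h ▸ Subgroup.mem_top _) (hx1 none))
  · refine Or.inr (Or.inl ?_)
    have hcard := Subgroup.card_mul_index (D.T a)
    rw [hidx] at hcard
    have hpd : p ∣ Nat.card L := by
      rw [← orderOf_eq_prime (hxp none) (hx1 none)]; exact orderOf_dvd_natCard _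
    rw [← hcard] at hpd
    have hp2 : p = 2 := (Nat.prime_dvd_prime_iff_eq hp Nat.prime_two).1
      ((hp.dvd_mul.1 hpd).resolve_left (D.not_dvd_card hp ha hap))
    refine ⟨hp2, hA.trans (Nat.le_of_dvd two_pos ?_)⟩
    obtain ⟨k, hk⟩ := IsPGroup.iff_card.1 (P none).isPGroup'
    have h1 : Nat.card (P none : Subgroup L) ∣ Nat.card (D.T a) * 2 :=
      hcard ▸ Subgroup.card_subgroup_dvd_card _
    exact (hk ▸ ((hp.coprime_iff_not_dvd.2 (D.not_dvd_card hp ha hap)).pow_left k)).dvd_of_dvd_mul_left h1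
  · exfalso
    obtain ⟨Q, hQ⟩ := D.exists_sylow hp ha hap
    have h1 := hnorm Q
    rw [hQ, h, Subgroup.card_top] at h1
    have := Nat.eq_of_mul_eq_mul_right Nat.card_pos (h1.trans (one_mul _).symm)
    omega
  · have hd : p ∣ Nat.card L := by
      rw [← orderOf_eq_prime (hxp none) (hx1 none)]; exact orderOf_dvd_natCard _
    have hp3 : p = 3 := hp'.resolve_left (not_not.2 hd)
    have hPc : Nat.card (P none : Subgroup L) = 3 := by
      rw [(P none).card_eq_multiplicity, h12, hp3, show (12 : ℕ) = 3 * 4 by norm_num,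
        Nat.factorization_mul (by norm_num) (by norm_num), Finsupp.add_apply, Nat.prime_three.factorization_self,
        Nat.factorization_eq_zero_of_not_dvd (by norm_num : ¬ 3 ∣ 4), pow_one]
    have h1 : Nat.card (Sylow p L) ≤ 4 := by
      have h2 := hnorm (P none)
      have h3 : 3 ≤ Nat.card (Subgroup.normalizer ((P none : Subgroup L) : Set L)) :=
        hPc ▸ Subgroup.card_le_of_le Subgroup.le_normalizer
      rw [h12] at h2
      have := Nat.mul_le_mul_left (Nat.card (Sylow p L)) h3
      omega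
    exact Or.inr (Or.inr ⟨hp3, by omega, hPc ▸ hA⟩)
  · exfalso
    exact hp' (by rw [← orderOf_eq_prime (hxp none) (hx1 none)]; exact orderOf_dvd_natCard _)
  · have hd : p ∣ Nat.card L := by
      rw [← orderOf_eq_prime (hxp none) (hx1 none)]; exact orderOf_dvd_natCard _
    have hp3 : p = 3 := hp'.resolve_left (not_not.2 hd)
    have hPc : Nat.card (P none : Subgroup L) = 3 := by
      rw [(P none).card_eq_multiplicity, h60, hp3, show (60 : ℕ) = 3 * 20 by norm_num,
        Nat.factorization_mul (by norm_num) (by norm_num), Finsupp.add_apply, Nat.prime_three.factorization_self,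
        Nat.factorization_eq_zero_of_not_dvd (by norm_num : ¬ 3 ∣ 20), pow_one]
    have h1 : Nat.card (Sylow p L) ≤ 10 := by
      have h2 := hnorm (P none)
      have h3 : 3 ∣ Nat.card (Subgroup.normalizer ((P none : Subgroup L) : Set L)) :=
        hPc ▸ Subgroup.card_dvd_of_le Subgroup.le_normalizer
      rw [h60] at h2
      have h4 : Nat.card (Sylow p L) ∣ 20 := by
        obtain ⟨m, hm⟩ := h3
        exact ⟨m, by rw [hm] at h2; linarith⟩
      have h5 := card_sylow_modEq_one p L
      rw [hp3] at h5 h4 ⊢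
      have h6 := Nat.le_of_dvd (by norm_num) h4
      rw [Nat.ModEq] at h5
      by_contra h7
      interval_cases h8 : Nat.card (Sylow 3 L) <;> omega
    exact Or.inr (Or.inr ⟨hp3, by omega, hPc ▸ hA⟩)
  · left
    obtain ⟨Q, hQ⟩ := D.exists_sylow hp ha hap
    have he : Nat.card (Q : Subgroup L) = Nat.card (D.T a) := by rw [hQ]
    have h1 := hnorm Q
    rw [hQ, hN, hX, mul_comm] at h1
    have h2 : Nat.card (Sylow p L) = Nat.card (D.T a) + 1 :=
      Nat.eq_of_mul_eq_mul_left (Nat.mul_pos Nat.card_pos (by omega)) h1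
    have hPe : Nat.card (P none : Subgroup L) = Nat.card (D.T a) := by
      rw [← he, Sylow.card_eq_multiplicity, Sylow.card_eq_multiplicity]
    have hle := Nat.card_le_card_of_injective r hrinj
    rw [Nat.card_eq_fintype_card (α := K)] at hle
    have hbij : Function.Bijective r := by
      haveI : Fintype (P none : Subgroup L) := Fintype.ofFinite _
      refine (Fintype.bijective_iff_injective_and_card r).2 ⟨hrinj, ?_⟩
      rw [← Nat.card_eq_fintype_card]
      omega
    intro c
    obtain ⟨g, rfl⟩ := hbij.2 c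
    obtain ⟨y, hy, hye⟩ := Subgroup.mem_map.1 (g : L).2
    rw [hr g] at hye
    rcases proj_eq_iff.1 hye with e | e
    · rwa [e]
    · rcases Nat.even_or_odd p with hev | hodd
      · have hp2 : p = 2 := hp.even_iff.1 hev
        subst hp2
        rw [e]
        convert hy using 1
        refine Subtype.ext (Matrix.ext fun i j => ?_)
        rw [Matrix.SpecialLinearGroup.coe_neg, Matrix.neg_apply, CharTwo.neg_eq]
      · have h3 : y ^ (p + 1) = up (r g) := by
          rw [show y = -up (r g) by rw [e, neg_neg], hodd.add_one.neg_pow, up_pow, Nat.cast_add, Nat.cast_one,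
            CharP.cast_eq_zero, zero_add, one_mul]
        rw [← h3]
        exact pow_mem hy _

end Cfsg.Agent.Transfer.U3Min
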