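import Cfsg.Agent.Lib.Transfer.PSUThreeIndex.Conj
import Cfsg.Agent.Lib.Transfer.PSUThreeIndex.Unip
import Cfsg.Agent.Lib.Classical.UnitTwoGenEmbed

/-!
A subgroup of `SU₃(q)` with a transvection at every isotropic line contains all of them, apart from small
exceptions in characteristics 2 and 3.
-/

set_option autoImplicit false
set_option linter.unusedSectionVars false
set_option maxHeartbeats 1000000

namespace Cfsg.Agent.Transfer.U3Min

open Matrix Cfsg Cfsg.Agent.Classical Cfsg.Agent.Classical.PSUAut Cfsg.Agent.Fus.UnitN Cfsg.Agent.Lie.SUGen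
  Cfsg.Agent.Lie.SU3Pres
open Cfsg.Agent.Grp.SL2 (up)

variable {F : Type*} [Field F] [Fintype F] {q : ℕ} (hF : Fintype.card F = q ^ 2)

local notation "cj" => qFrob hF
local notation "h" => hermForm 3 F q

variable {e n f : Fin 3 → F} (B : Frame3 q e n f)

include hF B

theorem transv_bound (p : ℕ) [Fact p.Prime] [CharP F p] {H : Subgroup (SU 3 F q)}
    (hA : ∀ g, aSet hF B (conjH H g) ≠ ⊥) :
    (∀ c : F, c + cj c = 0 → Um hF B 0 c ∈ H) ∨ (p = 2 ∧ Nat.card (aSet hF B H) ≤ 2) ∨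
      (p = 3 ∧ q ≤ 9 ∧ Nat.card (aSet hF B H) ≤ 3) := by
  classical
  obtain ⟨μ, hμ0, hμ⟩ := exists_trace_zero hF
  obtain ⟨φ, -, hφ⟩ := UnitMult.exists_sl2_emb hF B hμ0 hμ
  haveI : Fintype (UnitMult.fixK hF) := Fintype.ofFinite _
  haveI : CharP (UnitMult.fixK hF) p := RingHom.charP (UnitMult.fixK hF).subtype Subtype.val_injective p
  have hK : Fintype.card (UnitMult.fixK hF) = q := by
    rw [← Nat.card_eq_fintype_card]; exact UnitMult.natCard_fixK hF
  have hcμ : cj μ = -μ := eq_neg_of_add_eq_zero_right hμ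
  have hmem : ∀ {c : F}, c + cj c = 0 → c / μ ∈ UnitMult.fixK hF := fun {c} hc => by
    show cj (c / μ) = c / μ
    rw [map_div₀, hcμ, eq_neg_of_add_eq_zero_right hc, neg_div_neg_eq]
  have hskew : ∀ s : UnitMult.fixK hF, μ * (s : F) + cj (μ * (s : F)) = 0 := fun s => by
    rw [map_mul, hcμ, show cj (s : F) = (s : F) from s.2]; ring
  have hup : ∀ s : UnitMult.fixK hF, φ (up s) = Um hF B 0 (μ * (s : F)) := fun s =>
    ext_co hF B fun x y z => by
      rw [hφ, U_act hF B (OK.skew hF (hskew s))]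
      simp [up]
  let Y := H.comap φ
  have hY : ∀ M : Matrix.SpecialLinearGroup (Fin 2) (UnitMult.fixK hF),
      ∃ s, s ≠ 0 ∧ M * up s * M⁻¹ ∈ Y := by
    intro M
    obtain ⟨c, hcA, hc0⟩ := ((aSet hF B (conjH H (φ M))).bot_or_exists_ne_zero).resolve_left (hA (φ M))
    obtain ⟨hc, hcH⟩ := hcA
    refine ⟨⟨c / μ, hmem hc⟩, fun h0 => div_ne_zero hc0 hμ0 (congrArg Subtype.val h0), ?_⟩
    show φ _ ∈ H
    rw [map_mul, map_mul, map_inv, hup]
    rwa [show μ * (c / μ) = c from mul_div_cancel₀ c hμ0]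
  have hcard : Nat.card (aSet hF B H) = Nat.card {s : UnitMult.fixK hF // up s ∈ Y} := by
    refine (Nat.card_eq_of_bijective (fun s => (⟨μ * ((s.1 : UnitMult.fixK hF) : F), hskew s.1, ?_⟩ : aSet hF B H)) ⟨?_, ?_⟩).symm
    · have := s.2
      rwa [show (up s.1 ∈ Y) = (φ (up s.1) ∈ H) from rfl, hup] at this
    · intro a b hab
      exact Subtype.ext (Subtype.ext (mul_left_cancel₀ hμ0 (congrArg Subtype.val hab)))
    · rintro ⟨c, hc, hcH⟩
      refine ⟨⟨⟨c / μ, hmem hc⟩, ?_⟩, Subtype.ext (mul_div_cancel₀ c hμ0)⟩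
      show φ _ ∈ H
      rw [hup]
      rwa [show μ * (c / μ) = c from mul_div_cancel₀ c hμ0]
  rcases unip_bound p Y hY with h1 | ⟨hp, h1⟩ | ⟨hp, hq, h1⟩
  · left
    intro c hc
    have h2 : φ (up ⟨c / μ, hmem hc⟩) ∈ H := h1 _
    rwa [hup, show μ * (c / μ) = c from mul_div_cancel₀ c hμ0] at h2
  · exact Or.inr (Or.inl ⟨hp, hcard ▸ h1⟩)
  · exact Or.inr (Or.inr ⟨hp, hK ▸ hq, hcard ▸ h1⟩)

/-- A subgroup with every transvection is the whole group. -/
theorem eq_top_of_full (hq : 3 ≤ q) {H : Subgroup (SU 3 F q)}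
    (hfull : ∀ g, ∀ c : F, c + cj c = 0 → Um hF B 0 c ∈ conjH H g) : H = ⊤ := by
  refine UnitTwoGen.top_of_transvections hF le_rfl (fun h1 => by omega) fun v c H' => ?_
  by_cases hv : v = 0
  · have : eSU hF H' = 1 := suVal_ext (by
      refine Matrix.ext_iff_mulVec.2 fun x => ?_
      rw [suVal_eSU, suVal_one', Matrix.one_mulVec, tv_apply' hF, hv, smul_zero, add_zero])
    rw [this]
    exact one_mem H
  have hc : c + cj c = 0 := by
    have := H'.cc
    rwa [h_zero_left, add_zero, ← qFrob_apply hF] at this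
  obtain ⟨g, hg⟩ := su_transitive hF le_rfl B.P.ne_zero B.P.ee hv H'.ee
  have he : eSU hF (eOK_transvection hF B.P.ee hc) = Um hF B 0 c := by
    refine ext_co hF B fun x y z => ?_
    rw [U_act hF B (OK.skew hF hc), suVal_eSU, tv_apply' hF]
    have h1 : h (co e n f x y z) e = z := by
      rw [← cj_h hF, h_e hF B, cj_cj hF]
    rw [h1]
    simp only [co, map_zero]
    module
  have h2 : g * Um hF B 0 c * g⁻¹ = eSU hF H' := by
    rw [← he, eSU_conj hF g]
    exact suVal_ext (by rw [suVal_eSU, suVal_eSU, hg, Matrix.mulVec_zero])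
  rw [← h2]
  exact hfull g c hc

end Cfsg.Agent.Transfer.U3Min
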