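import Cfsg.Agent.Lib.Transfer.PSUThreeIndex.Params

/-!
Large subgroups with few transvections at each line, in characteristics 2 and 3.
-/

set_option autoImplicit false
set_option linter.unusedSectionVars false
set_option maxHeartbeats 1000000
set_option maxRecDepth 10000

namespace Cfsg.Agent.Transfer.U3Min

open Matrix Cfsg Cfsg.Agent.Classical Cfsg.Agent.Classical.PSUAut Cfsg.Agent.Fus.UnitN Cfsg.Agent.Lie.SUGen
  Cfsg.Agent.Lie.SU3Pres

variable {F : Type*} [Field F] [Fintype F] {q : ℕ} (hF : Fintype.card F = q ^ 2)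

local notation "cj" => qFrob hF

variable {e n f : Fin 3 → F} (B : Frame3 q e n f)

include hF B

omit hF B in
theorem card_ge_of_mem {A : AddSubgroup F} (s : Finset F) (hs : ∀ x ∈ s, x ∈ A) :
    s.card ≤ Nat.card A := by
  have := Nat.card_le_card_of_injective (fun x : s => (⟨x.1, hs x.1 x.2⟩ : A)) fun x y hxy =>
    Subtype.ext (congrArg (fun z : A => (z : F)) hxy)
  rwa [Nat.card_eq_fintype_card (α := s), Fintype.card_coe] at this

theorem false_of_eight {H : Subgroup (SU 3 F q)} (hH : (q ^ 3 + 1) * (q ^ 2 - 1) ≤ Nat.card H) (h8 : q = 8)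
    (hSt : Nat.card (H ⊓ Uni hF B : Subgroup (SU 3 F q)) * Nat.card (tSet B H) = 72) : False := by
  haveI : Fact (Nat.Prime 19) := ⟨by norm_num⟩
  have hN : Nat.card H = 36936 := by rw [card_eq_of_big hF B hH, hSt, h8]; norm_num
  obtain ⟨k, -, h1, h2, h3, -⟩ := exists_k hF B hH hN (r := 19) (by norm_num) (by norm_num)
    (by rw [hSt]; norm_num) (by rw [h8]; norm_num)
  have h4 := h3 3 (by norm_num)
  have hk : k ∣ 1944 := Nat.dvd_of_mul_dvd_mul_right (show 0 < 19 by norm_num) (show k * 19 ∣ 1944 * 19 from h1)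
  obtain ⟨d, rfl⟩ := h4
  have hd : d ∣ 243 := Nat.dvd_of_mul_dvd_mul_left (show 0 < 2 ^ 3 by norm_num) (show 2 ^ 3 * d ∣ 2 ^ 3 * 243 from hk)
  have hd' : d < 244 := Nat.lt_succ_of_le (Nat.le_of_dvd (by norm_num) hd)
  have key : ∀ d < 244, (2 ^ 3 * d) % 19 = 1 → ¬ d ∣ 243 := by decide
  exact key d hd' h2 hd

theorem two_false (hq : 3 ≤ q) [CharP F 2] {H : Subgroup (SU 3 F q)}
    (hH : (q ^ 3 + 1) * (q ^ 2 - 1) ≤ Nat.card H) (hA0 : aSet hF B H ≠ ⊥)
    (hA : Nat.card (aSet hF B H) ≤ 2) : False := by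
  classical
  haveI : Fact (Nat.Prime 2) := ⟨Nat.prime_two⟩
  obtain ⟨a, haA, ha0⟩ := ((aSet hF B H).bot_or_exists_ne_zero).resolve_left hA0
  have hA2 : Nat.card (aSet hF B H) = 2 := by
    refine le_antisymm hA ?_
    have h1 := card_ge_of_mem ({0, a} : Finset F) (A := aSet hF B H) (by simp [haA, zero_mem])
    rwa [Finset.card_pair ha0.symm] at h1
  have hmem : ∀ c ∈ aSet hF B H, c ≠ 0 → c = a := by
    intro c hc hc0
    by_contra hca
    have h1 := card_ge_of_mem ({0, a, c} : Finset F) (A := aSet hF B H) (by simp [haA, hc, zero_mem])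
    rw [Finset.card_eq_three.2 ⟨0, a, c, ha0.symm, hc0.symm, Ne.symm hca, rfl⟩] at h1
    omega
  have hNl : ∀ l ∈ tSet B H, ((l : Fˣ) : F) ^ (q + 1) = 1 := by
    intro l hl
    rw [← norm_eq_pow hF B]
    have hne : (l : F) * cj (l : F) * a ≠ 0 :=
      mul_ne_zero (mul_ne_zero l.ne_zero ((map_ne_zero (qFrob hF)).2 l.ne_zero)) ha0
    exact mul_right_cancel₀ ha0 ((hmem _ (aSet_stable hF B hl haA) hne).trans (one_mul a).symm)
  have ht := card_dvd_of_pow hNl
  have hWN : ∀ α ∈ wSet hF B H, α ≠ 0 → α * cj α = a := by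
    rintro α ⟨b, hb, hK⟩ hα0
    refine hmem _ ⟨?_, ?_⟩ (mul_ne_zero hα0 ((map_ne_zero (qFrob hF)).2 hα0))
    · rw [map_mul, cj_cj hF, mul_comm (cj α) α, CharTwo.add_self_eq_zero]
    · have h1 := mul_mem hK hK
      rw [U_mul hF B hb hb, CharTwo.add_self_eq_zero, CharTwo.add_self_eq_zero, zero_sub, CharTwo.neg_eq] at h1
      rwa [mul_comm] at h1
  -- at most four linear parameters
  have hW : Nat.card (wSet hF B H) ≤ 4 := by
    by_cases hW0 : wSet hF B H = ⊥
    · rw [hW0, AddSubgroup.card_bot]; norm_num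
    obtain ⟨α, hα, hα0⟩ := ((wSet hF B H).bot_or_exists_ne_zero).resolve_left hW0
    by_cases hW1 : ∀ β ∈ wSet hF B H, β = 0 ∨ β = α
    · refine le_trans (Nat.card_le_card_of_injective
        (fun β : wSet hF B H => if (β : F) = 0 then (0 : Fin 4) else 1) fun β γ hβγ => ?_) (by simp)
      rcases hW1 β β.2 with h1 | h1 <;> rcases hW1 γ γ.2 with h2 | h2 <;>
        simp [h1, h2, hα0] at hβγ <;> exact Subtype.ext (h1.trans h2.symm)
    push Not at hW1
    obtain ⟨β, hβ, hβ0, hβα⟩ := hW1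
    have hT : ∀ γ ∈ wSet hF B H, γ ≠ 0 → γ ≠ α → α * cj γ + cj α * γ = a := by
      intro γ hγ hγ0 hγα
      have hne : α + γ ≠ 0 := fun h0 => hγα (by rw [← CharTwo.add_eq_zero, add_comm]; exact h0)
      have h1 := hWN _ (add_mem hα hγ) hne
      rw [map_add] at h1
      linear_combination h1 - hWN α hα hα0 - hWN γ hγ hγ0 - a * (CharTwo.two_eq_zero (R := F))
    have hall : ∀ γ ∈ wSet hF B H, γ = 0 ∨ γ = α ∨ γ = β ∨ γ = α + β := by
      intro γ hγ
      by_contra! hne
      obtain ⟨h1, h2, h3, h4⟩ := hne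
      have h5 : β + γ ≠ 0 := fun h0 => h3 (by rw [← CharTwo.add_eq_zero, add_comm]; exact h0)
      have h6 : β + γ ≠ α := fun h0 => h4 (by rw [← h0, add_comm β γ, CharTwo.add_cancel_right])
      have e1 := hT β hβ hβ0 hβα
      have e2 := hT γ hγ h1 h2
      have e3 := hT _ (add_mem hβ hγ) h5 h6
      rw [map_add] at e3
      exact ha0 (by linear_combination e3 - e1 - e2)
    let s : Finset F := {0, α, β, α + β}
    refine le_trans (Nat.card_le_card_of_injective (fun γ : wSet hF B H => (⟨γ.1, ?_⟩ : s))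
      fun γ δ h0 => Subtype.ext (congrArg (fun z : s => (z : F)) h0)) ?_
    · rcases hall γ γ.2 with h1 | h1 | h1 | h1 <;> simp [s, h1]
    · rw [Nat.card_eq_fintype_card, Fintype.card_coe]
      exact Finset.card_le_four
  have hS : Nat.card (H ⊓ Uni hF B : Subgroup (SU 3 F q)) = 2 * Nat.card (wSet hF B H) := by
    rw [card_inf_Uni hF B, hA2]
  have hle := le_stab_of_big hF B hH
  have htle : Nat.card (tSet B H) ≤ q + 1 := Nat.le_of_dvd (Nat.succ_pos _) ht
  rw [hS] at hle
  obtain ⟨k, hk0, hk⟩ := exists_pk hF B 2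
  have hq9 : q ≤ 9 := by
    have h1 := Nat.mul_le_mul (Nat.mul_le_mul_left 2 hW) htle
    have h2 : (q - 1) * (q + 1) ≤ 2 * 4 * (q + 1) := by
      rw [mul_comm (q - 1), ← Nat.sq_sub_sq, one_pow]
      exact hle.trans h1
    have := Nat.le_of_mul_le_mul_right h2 (Nat.succ_pos _)
    omega
  have hk3 : k ≤ 3 := by
    by_contra! h1
    have := Nat.pow_le_pow_right (show 0 < 2 by norm_num) h1
    rw [← hk] at this
    omega
  interval_cases k <;> norm_num at hk <;> subst hk
  · omega
  · omega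
  · -- q = 4
    have ht5 : Nat.card (tSet B H) = 5 := by
      rcases (Nat.dvd_prime (by norm_num : Nat.Prime 5)).1 ht with h1 | h1
      · rw [h1] at hle; omega
      · exact h1
    rw [ht5] at hle
    obtain ⟨l, hl, hlo, -⟩ := exists_gen_units (tSet B H)
    have hlo' : orderOf (l : F) = 5 := by rw [← orderOf_units] at *; rw [hlo, ht5]
    have hlF : orderOf (th hF (l : F)) = 5 := by
      rw [th_eq_pow hF B l.ne_zero, orderOf_pow' _ (by norm_num), hlo']
      norm_num
    obtain ⟨α, hα, hα0⟩ : ∃ α ∈ wSet hF B H, α ≠ 0 := by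
      by_contra! h0
      rw [(AddSubgroup.eq_bot_iff_forall _).2 h0, AddSubgroup.card_bot] at hle
      omega
    have hit : ∀ i : ℕ, th hF (l : F) ^ i * α ∈ wSet hF B H := by
      intro i
      induction i with
      | zero => simpa using hα
      | succ i ih => rw [pow_succ', mul_assoc]; exact wSet_stable hF B hl ih
    have h6 := Nat.card_le_card_of_injective
      (fun o : Option (Fin 5) => (o.elim 0 fun i => ⟨_, hit i.1⟩ : wSet hF B H)) (by
        have hth0 : th hF (l : F) ≠ 0 := fun h0 => by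
          rw [h0] at hlF; simp at hlF
        rintro (_ | i) (_ | j) hij
        · rfl
        · exact absurd (congrArg Subtype.val hij).symm (mul_ne_zero (pow_ne_zero _ hth0) hα0)
        · exact absurd (congrArg Subtype.val hij) (mul_ne_zero (pow_ne_zero _ hth0) hα0)
        · have h1 := mul_right_cancel₀ hα0 (congrArg Subtype.val hij)
          exact congrArg some (Fin.ext (pow_injOn_Iio_orderOf (by simp [hlF, i.2]) (by simp [hlF, j.2]) h1)))
    rw [Finite.card_option, Nat.card_fin] at h6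
    omega
  · -- q = 8
    refine false_of_eight hF B hH rfl ?_
    rw [hS]
    have ht9 : Nat.card (tSet B H) = 9 := by
      have h1 : Nat.card (tSet B H) ∈ Nat.divisors 9 := Nat.mem_divisors.2 ⟨ht, by norm_num⟩
      rw [show Nat.divisors 9 = {1, 3, 9} by decide] at h1
      simp only [Finset.mem_insert, Finset.mem_singleton] at h1
      rcases h1 with h1 | h1 | h1 <;> rw [h1] at hle <;> omega
    rw [ht9] at hle ⊢
    omega

theorem false_of_nine {H : Subgroup (SU 3 F q)} (hH : (q ^ 3 + 1) * (q ^ 2 - 1) ≤ Nat.card H) (h9 : q = 9)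
    (hSt : Nat.card (H ⊓ Uni hF B : Subgroup (SU 3 F q)) * Nat.card (tSet B H) = 108) : False := by
  haveI : Fact (Nat.Prime 73) := ⟨by norm_num⟩
  have hN : Nat.card H = 78840 := by rw [card_eq_of_big hF B hH, hSt, h9]; norm_num
  obtain ⟨k, -, h1, h2, h3, -⟩ := exists_k hF B hH hN (r := 73) (by norm_num) (by norm_num)
    (by rw [hSt]; norm_num) (by rw [h9]; norm_num)
  have h4 := h3 1 (by norm_num)
  have hk : k ∣ 1080 := Nat.dvd_of_mul_dvd_mul_right (show 0 < 73 by norm_num) (show k * 73 ∣ 1080 * 73 from h1)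
  have hd' : k < 1081 := Nat.lt_succ_of_le (Nat.le_of_dvd (by norm_num) hk)
  have key : ∀ j < 15, 2 ∣ 73 * j + 1 → ¬ 73 * j + 1 ∣ 1080 := by decide
  obtain ⟨j, rfl⟩ : ∃ j, k = 73 * j + 1 := ⟨k / 73, by omega⟩
  exact key j (by omega) (by simpa using h4) hk

theorem three_false [CharP F 3] {H : Subgroup (SU 3 F q)} (hq3 : q ≠ 3) (hq9 : q ≤ 9)
    (hH : (q ^ 3 + 1) * (q ^ 2 - 1) ≤ Nat.card H) (hA0 : aSet hF B H ≠ ⊥)
    (hA : Nat.card (aSet hF B H) ≤ 3) : False := by
  classical
  haveI : Fact (Nat.Prime 3) := ⟨Nat.prime_three⟩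
  obtain ⟨k, hk0, hk⟩ := exists_pk hF B 3
  have h9 : q = 9 := by
    have : k ≤ 2 := by
      by_contra! h1
      have := Nat.pow_le_pow_right (show 0 < 3 by norm_num) h1
      rw [← hk] at this
      omega
    interval_cases k <;> omega
  clear hk hk0 k hq9 hq3
  have hq81 : q ^ 2 = 81 := by rw [h9]; norm_num
  obtain ⟨a, haA, ha0⟩ := ((aSet hF B H).bot_or_exists_ne_zero).resolve_left hA0
  have ha2 : -a ≠ a := fun h0 => ha0 (by
    have h3 : (3 : F) = 0 := by exact_mod_cast CharP.cast_eq_zero F 3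
    linear_combination h0 + a * h3)
  have hA3 : Nat.card (aSet hF B H) = 3 := by
    refine le_antisymm hA ?_
    have h1 := card_ge_of_mem ({0, a, -a} : Finset F) (A := aSet hF B H) (by simp [haA, zero_mem])
    rwa [Finset.card_eq_three.2 ⟨0, a, -a, ha0.symm, (neg_ne_zero.2 ha0).symm, ha2.symm, rfl⟩] at h1
  have hmem : ∀ c ∈ aSet hF B H, c = 0 ∨ c = a ∨ c = -a := by
    intro c hc
    by_contra! hne
    obtain ⟨h1, h2, h3⟩ := hne
    have h4 := card_ge_of_mem ({c, 0, a, -a} : Finset F) (A := aSet hF B H) (by simp [haA, hc, zero_mem])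
    rw [Finset.card_insert_of_notMem (by simp [h1, h2, h3]),
      Finset.card_eq_three.2 ⟨0, a, -a, ha0.symm, (neg_ne_zero.2 ha0).symm, ha2.symm, rfl⟩] at h4
    omega
  have hNl : ∀ l ∈ tSet B H, ((l : Fˣ) : F) ^ 20 = 1 := by
    intro l hl
    have h1 : ((l : F) * cj (l : F)) * ((l : F) * cj (l : F)) = 1 := by
      rcases hmem _ (aSet_stable hF B hl haA) with h2 | h2 | h2
      · exact absurd h2 (mul_ne_zero (mul_ne_zero l.ne_zero ((map_ne_zero (qFrob hF)).2 l.ne_zero)) ha0)
      · rw [mul_right_cancel₀ ha0 (h2.trans (one_mul a).symm), one_mul]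
      · rw [mul_right_cancel₀ ha0 (h2.trans (neg_one_mul a).symm), neg_mul_neg, one_mul]
    rw [norm_eq_pow hF B, ← pow_add, h9] at h1
    exact h1
  have ht := card_dvd_of_pow hNl
  -- the alternating form
  have hWpow : ∃ j, Nat.card (wSet hF B H) = 3 ^ j := by
    have h1 := AddSubgroup.card_addSubgroup_dvd_card (wSet hF B H)
    rw [Nat.card_eq_fintype_card (α := F), hF, hq81, show (81 : ℕ) = 3 ^ 4 by norm_num] at h1
    obtain ⟨j, -, hj⟩ := (Nat.dvd_prime_pow Nat.prime_three).1 h1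
    exact ⟨j, hj⟩
  have hker : ∀ α ∈ wSet hF B H, α ≠ 0 →
      Nat.card (wSet hF B H) ≤ 3 * Nat.card {β : wSet hF B H // α * cj (β : F) = cj α * β} ∧
      Nat.card {β : wSet hF B H // α * cj (β : F) = cj α * β} ≤ 9 := by
    intro α hα hα0
    let ω : wSet hF B H →+ aSet hF B H :=
      AddMonoidHom.mk' (fun β => ⟨α * cj (β : F) - cj α * β, comm_mem_aSet hF B hα β.2⟩) fun β γ =>
        Subtype.ext (by simp only [AddSubgroup.coe_add, map_add]; ring)
    have hk : Nat.card {β : wSet hF B H // α * cj (β : F) = cj α * β} = Nat.card ω.ker :=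
      Nat.card_congr (Equiv.subtypeEquivRight fun β => by
        rw [AddMonoidHom.mem_ker, Subtype.ext_iff]
        exact sub_eq_zero.symm)
    refine ⟨?_, ?_⟩
    · rw [hk, ← AddSubgroup.card_mul_index ω.ker, AddSubgroup.index_ker, mul_comm 3]
      exact Nat.mul_le_mul_left _ (hA3 ▸ Nat.card_le_card_of_injective _ Subtype.val_injective)
    · refine le_trans ?_ ((Cfsg.Agent.Classical.UnitMult.natCard_fixK hF).trans h9).le
      refine Nat.card_le_card_of_injective (fun β => ⟨((β.1 : wSet hF B H) : F) / α, ?_⟩) fun β γ hβγ =>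
        Subtype.ext (Subtype.ext ((div_left_inj' hα0).1 (congrArg Subtype.val hβγ)))
      show cj (((β.1 : wSet hF B H) : F) / α) = _ / α
      rw [map_div₀, div_eq_div_iff ((map_ne_zero (qFrob hF)).2 hα0) hα0]
      linear_combination β.2
  have hW : Nat.card (wSet hF B H) ≤ 9 := by
    by_contra! hW9
    -- every line of a parameter lies inside
    have hline : ∀ α ∈ wSet hF B H, α ≠ 0 → ∀ c : F, cj c = c → c * α ∈ wSet hF B H := by
      intro α hα hα0 c hc
      obtain ⟨h1, h2⟩ := hker α hα hα0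
      have h27 : 27 ≤ Nat.card (wSet hF B H) := by
        obtain ⟨j, hj⟩ := hWpow
        rw [hj] at hW9 ⊢
        have : 3 ≤ j := by
          by_contra! h4
          have := Nat.pow_le_pow_right (show 0 < 3 by norm_num) (Nat.le_of_lt_succ h4)
          omega
        exact Nat.pow_le_pow_right (show 0 < 3 by norm_num) this
      let ψ : {β : wSet hF B H // α * cj (β : F) = cj α * β} → UnitMult.fixK hF := fun β =>
        ⟨((β.1 : wSet hF B H) : F) / α, by
          show cj (((β.1 : wSet hF B H) : F) / α) = _ / α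
          rw [map_div₀, div_eq_div_iff ((map_ne_zero (qFrob hF)).2 hα0) hα0]
          linear_combination β.2⟩
      have hψ : Function.Bijective ψ := by
        refine (Nat.bijective_iff_injective_and_card ψ).2 ⟨fun β γ hβγ =>
          Subtype.ext (Subtype.ext ((div_left_inj' hα0).1 (congrArg Subtype.val hβγ))), ?_⟩
        exact le_antisymm (le_trans h2 ((Cfsg.Agent.Classical.UnitMult.natCard_fixK hF).trans h9).ge)
          (le_trans ((Cfsg.Agent.Classical.UnitMult.natCard_fixK hF).trans h9).le (by omega))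
      obtain ⟨β, hβ⟩ := hψ.2 ⟨c, hc⟩
      have h3 : ((β.1 : wSet hF B H) : F) / α = c := congrArg Subtype.val hβ
      rw [← h3, div_mul_cancel₀ _ hα0]
      exact β.1.2
    obtain ⟨α, hα, hα0⟩ := ((wSet hF B H).bot_or_exists_ne_zero).resolve_left (fun h0 => by
      rw [h0, AddSubgroup.card_bot] at hW9; omega)
    obtain ⟨h1, h2⟩ := hker α hα hα0
    obtain ⟨β, hβ⟩ : ∃ β : wSet hF B H, ¬ α * cj (β : F) = cj α * β := by
      by_contra! h0
      rw [Nat.card_congr (Equiv.subtypeUnivEquiv h0)] at h2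
      omega
    have hβ0 : (β : F) ≠ 0 := fun h0 => hβ (by rw [h0, map_zero, mul_zero, mul_zero])
    have h81 := Nat.card_le_card_of_injective
      (fun z : UnitMult.fixK hF × UnitMult.fixK hF => (⟨(z.1 : F) * α + (z.2 : F) * β,
        add_mem (hline α hα hα0 _ z.1.2) (hline _ β.2 hβ0 _ z.2.2)⟩ : wSet hF B H)) (by
      rintro ⟨a1, b1⟩ ⟨a2, b2⟩ hz
      have h3 : (a1 : F) * α + (b1 : F) * β = (a2 : F) * α + (b2 : F) * β := congrArg Subtype.val hz
      have h4 := congrArg cj h3
      simp only [map_add, map_mul, show cj (a1 : F) = a1 from a1.2, show cj (a2 : F) = a2 from a2.2,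
        show cj (b1 : F) = b1 from b1.2, show cj (b2 : F) = b2 from b2.2] at h4
      have h5 : ((b1 : F) - b2) * (α * cj (β : F) - cj α * β) = 0 := by
        linear_combination α * h4 - cj α * h3
      have hb : b1 = b2 := Subtype.ext (sub_eq_zero.1 ((mul_eq_zero.1 h5).resolve_right (sub_ne_zero.2 hβ)))
      subst hb
      exact Prod.ext (Subtype.ext (mul_right_cancel₀ hα0 (add_right_cancel h3))) rfl)
    rw [Nat.card_prod, Cfsg.Agent.Classical.UnitMult.natCard_fixK hF, ← pow_two, hq81] at h81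
    omega
  have hS : Nat.card (H ⊓ Uni hF B : Subgroup (SU 3 F q)) = 3 * Nat.card (wSet hF B H) := by
    rw [card_inf_Uni hF B, hA3]
  have hle := le_stab_of_big hF B hH
  rw [hS, hq81] at hle
  by_cases h5 : 5 ∣ Nat.card (tSet B H)
  · haveI : Fact (Nat.Prime 5) := ⟨by norm_num⟩
    obtain ⟨x, hx⟩ := exists_prime_orderOf_dvd_card' 5 h5
    have hlo : orderOf ((x : Fˣ) : F) = 5 := by rw [orderOf_units, Subgroup.orderOf_coe, hx]
    have hlF : orderOf (th hF ((x : Fˣ) : F)) = 5 := by
      rw [th_eq_pow hF B (Units.ne_zero _), show 2 * q - 1 = 17 by omega, orderOf_pow' _ (by norm_num), hlo]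
      norm_num
    obtain ⟨α, hα, hα0⟩ : ∃ α ∈ wSet hF B H, α ≠ 0 := by
      by_contra! h0
      rw [(AddSubgroup.eq_bot_iff_forall _).2 h0, AddSubgroup.card_bot] at hle
      have := Nat.le_of_dvd (by norm_num) ht
      omega
    set y := th hF ((x : Fˣ) : F) with hy
    have hit : ∀ i : ℕ, y ^ i * α ∈ wSet hF B H := by
      intro i
      induction i with
      | zero => simpa using hα
      | succ i ih => rw [pow_succ', mul_assoc]; exact wSet_stable hF B x.2 ih
    have hy0 : y ≠ 0 := fun h0 => by rw [h0] at hlF; simp at hlF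
    have hi : ∀ i j : Fin 5, y ^ (i : ℕ) = y ^ (j : ℕ) → i = j := fun i j h1 =>
      Fin.ext (pow_injOn_Iio_orderOf (by simp [hlF, i.2]) (by simp [hlF, j.2]) h1)
    have hneg : ∀ i j : Fin 5, y ^ (i : ℕ) ≠ -(y ^ (j : ℕ)) := by
      intro i j h1
      have h5' : ∀ i : ℕ, (y ^ i) ^ 5 = 1 := fun i => by
        rw [← pow_mul, mul_comm, pow_mul, ← hlF, pow_orderOf_eq_one, one_pow]
      have h2 := congrArg (· ^ 5) h1
      simp only [Odd.neg_pow (by decide : Odd 5), h5'] at h2
      have h3 : (3 : F) = 0 := by exact_mod_cast CharP.cast_eq_zero F 3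
      exact one_ne_zero (α := F) (by linear_combination h3 - h2)
    have h6 := Nat.card_le_card_of_injective
      (fun o : Bool × Fin 5 => (if o.1 then ⟨_, hit o.2.1⟩ else -⟨_, hit o.2.1⟩ : wSet hF B H)) (by
        rintro ⟨_ | _, i⟩ ⟨_ | _, j⟩ hij <;>
          simp only [Bool.false_eq_true, if_false, if_true, Subtype.ext_iff, AddSubgroup.coe_neg] at hij
        · rw [hi i j (mul_right_cancel₀ hα0 (neg_injective hij))]
        · rw [← neg_mul] at hij; exact absurd (mul_right_cancel₀ hα0 hij).symm (hneg j i)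
        · rw [← neg_mul] at hij; exact absurd (mul_right_cancel₀ hα0 hij) (hneg i j)
        · rw [hi i j (mul_right_cancel₀ hα0 hij)])
    rw [Nat.card_prod, Nat.card_fin, Nat.card_eq_fintype_card (α := Bool), Fintype.card_bool] at h6
    omega
  · have ht4 : Nat.card (tSet B H) ∣ 4 := by
      have h1 : Nat.Coprime (Nat.card (tSet B H)) 5 := (Nat.Prime.coprime_iff_not_dvd (by norm_num)).2 h5 |>.symm
      exact h1.dvd_of_dvd_mul_right (show Nat.card (tSet B H) ∣ 4 * 5 from ht)
    have ht4' := Nat.le_of_dvd (by norm_num) ht4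
    refine false_of_nine hF B hH h9 ?_
    rw [hS]
    have h1 := Nat.mul_le_mul_left (3 * Nat.card (wSet hF B H)) ht4'
    obtain ⟨j, hj⟩ := hWpow
    rw [hj] at hW hle h1 ⊢
    have hj2 : j ≤ 2 := (Nat.pow_le_pow_iff_right (by norm_num : 1 < 3)).1 (by norm_num; exact hW)
    have h4 : Nat.card (tSet B H) ∈ ({1, 2, 4} : Finset ℕ) := by
      rw [← show Nat.divisors 4 = {1, 2, 4} by decide]
      exact Nat.mem_divisors.2 ⟨ht4, by norm_num⟩
    simp only [Finset.mem_insert, Finset.mem_singleton] at h4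
    interval_cases j <;> rcases h4 with h4 | h4 | h4 <;> rw [h4] at hle ⊢ <;> omega

end Cfsg.Agent.Transfer.U3Min
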