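import Cfsg.Agent.Lib.Transfer.PSUThreeIndex.Cases
import Cfsg.Agent.Lib.Transfer.PSUThreeIndex.Small
import Cfsg.Agent.Lib.Transfer.PSUThreeIndex.Full

/-!
The minimal index of a proper subgroup of `PSU₃(q)`.
-/

set_option autoImplicit false
set_option linter.unusedSectionVars false
set_option maxHeartbeats 1000000

namespace Cfsg.Agent.Transfer.U3Min

open Matrix Cfsg Cfsg.Agent.Classical Cfsg.Agent.Classical.PSUAut Cfsg.Agent.Fus.UnitN Cfsg.Agent.Lie.SUGen
  Cfsg.Agent.Lie.SU3Pres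

variable {F : Type*} [Field F] [Fintype F] {q : ℕ} (hF : Fintype.card F = q ^ 2)

local notation "cj" => qFrob hF

variable {e n f : Fin 3 → F} (B : Frame3 q e n f)

include hF B

theorem full_of_card {H : Subgroup (SU 3 F q)} (hc : Nat.card (aSet hF B H) = q) {c : F} (h0 : c + cj c = 0) :
    Um hF B 0 c ∈ H := by
  let ι : aSet hF B H → {x : F // x + cj x = 0} := fun x => ⟨x.1, x.2.1⟩
  have hι : Function.Bijective ι :=
    (Nat.bijective_iff_injective_and_card ι).2 ⟨fun x y hxy => Subtype.ext (congrArg Subtype.val hxy :),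
      hc.trans (Cfsg.Agent.Lie.MinIndexUnit.card_skew hF).symm⟩
  obtain ⟨x, hx⟩ := hι.2 ⟨c, h0⟩
  have h1 : (x : F) = c := congrArg Subtype.val hx
  exact h1 ▸ x.2.2

theorem card_of_full {H : Subgroup (SU 3 F q)} (hfull : ∀ c : F, c + cj c = 0 → Um hF B 0 c ∈ H) :
    Nat.card (aSet hF B H) = q :=
  (Nat.card_congr (Equiv.subtypeEquivRight fun c => ⟨fun h0 => h0.1, fun h0 => ⟨h0, hfull c h0⟩⟩)).trans
    (Cfsg.Agent.Lie.MinIndexUnit.card_skew hF)

theorem big_eq_top {H : Subgroup (SU 3 F q)} (hq : 3 ≤ q) (h5 : q ≠ 5)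
    (hH : (q ^ 3 + 1) * (q ^ 2 - 1) ≤ Nat.card H) : H = ⊤ := by
  classical
  obtain ⟨p, hp⟩ := CharP.exists F
  haveI : Fact p.Prime := ⟨CharP.char_is_prime F p⟩
  by_cases hA : aSet hF B H = ⊥
  · rcases Nat.even_or_odd q with hev | hodd
    · exact (even_false hF B hq hev hH hA).elim
    · exact (odd_false hF B hq h5 hodd hH hA).elim
  have hall : ∀ g, aSet hF B (conjH H g) ≠ ⊥ := fun g h0 => hA ((aSet_eq_bot_iff hF B hH g).1 h0)
  have key : Nat.card (aSet hF B H) = q := by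
    rcases transv_bound hF B p hall with h1 | ⟨rfl, h1⟩ | ⟨rfl, hq9, h1⟩
    · exact card_of_full hF B h1
    · exact (two_false hF B hq hH hA h1).elim
    · by_cases h3 : q = 3
      · have h2 := AddSubgroup.card_addSubgroup_dvd_card (aSet hF B H)
        rw [Nat.card_eq_fintype_card (α := F), hF] at h2
        rw [show q ^ 2 = 3 ^ 2 by rw [h3]] at h2
        obtain ⟨j, -, hj⟩ := (Nat.dvd_prime_pow Nat.prime_three).1 h2
        have hj1 : j = 1 := by
          rcases j with _ | _ | j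
          · exact absurd (AddSubgroup.card_eq_one.1 hj) hA
          · rfl
          · rw [hj] at h1
            have := Nat.pow_le_pow_right (show 0 < 3 by norm_num) (show 2 ≤ j + 1 + 1 by omega)
            omega
        rw [hj, hj1, pow_one, h3]
      · exact (three_false hF B h3 hq9 hH hA h1).elim
  exact eq_top_of_full hF B hq fun g c hc =>
    full_of_card hF B ((same_data hF B hH g).2.1.trans key) hc

omit B in
theorem le_index (hq : 3 ≤ q) (h5 : q ≠ 5) {H : Subgroup (SU 3 F q)} (hne : H ≠ ⊤) :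
    q ^ 3 + 1 ≤ H.index := by
  obtain ⟨e, n, f, B⟩ := exists_frame hF
  by_contra! hlt
  refine hne (big_eq_top hF B hq h5 ?_)
  have h1 := H.card_mul_index
  rw [Cfsg.Agent.Classical.UnitMult.natCard_SU3 hF] at h1
  have h2 : Nat.card H * H.index ≤ Nat.card H * q ^ 3 := Nat.mul_le_mul_left _ (Nat.le_of_lt_succ hlt)
  rw [h1] at h2
  exact Nat.le_of_mul_le_mul_right (le_trans (le_of_eq (by ring)) h2) (pow_pos (by omega : 0 < q) 3)

omit B in
theorem psu_min_index (hq : 3 ≤ q) (h5 : q ≠ 5) :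
    (∀ H : Subgroup (PSU 3 F q), H ≠ ⊤ → q ^ 3 + 1 ≤ H.index) ∧
      ∃ H : Subgroup (PSU 3 F q), H.index = q ^ 3 + 1 := by
  obtain ⟨e, n, f, B⟩ := exists_frame hF
  refine ⟨fun H hH => ?_, (Bor B).map (suToPSU 3 F q), ?_⟩
  · have h1 : (H.comap (suToPSU 3 F q)).index = H.index := Subgroup.index_comap_of_surjective H pi_surjective
    rw [← h1]
    refine le_index hF hq h5 fun h0 => hH ?_
    rw [← Subgroup.index_eq_one, ← h1, h0, Subgroup.index_top]
  · rw [Subgroup.index_map_eq (Bor B) pi_surjective fun s hs => ?_, index_Bor hF B]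
    obtain ⟨l, hl⟩ := (pi_eq_one_iff hF).1 hs
    exact ⟨l, by rw [hl, Matrix.smul_mulVec, Matrix.one_mulVec]⟩

end Cfsg.Agent.Transfer.U3Min
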