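import Cfsg.Agent.Lib.Transfer.PSUThreeIndex.Orbit

/-!
All lines look alike to a transitive subgroup, and a torus element can be conjugated into diagonal position.
-/

set_option autoImplicit false
set_option linter.unusedSectionVars false
set_option maxHeartbeats 1000000

namespace Cfsg.Agent.Transfer.U3Min

open Matrix Cfsg Cfsg.Agent.Classical Cfsg.Agent.Classical.PSUAut Cfsg.Agent.Fus.UnitN Cfsg.Agent.Lie.SUGen
  Cfsg.Agent.Lie.SU3Pres

variable {F : Type*} [Field F] [Fintype F] {q : ℕ} (hF : Fintype.card F = q ^ 2)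

local notation "cj" => qFrob hF
local notation "h" => hermForm 3 F q

variable {e n f : Fin 3 → F} (B : Frame3 q e n f)

include hF B

theorem tSet_conjH_bor (H : Subgroup (SU 3 F q)) {b : SU 3 F q} (hb : b ∈ Bor B) :
    tSet B (conjH H b) = tSet B H := by
  obtain ⟨μ, hμ⟩ := hb
  have hμ0 : μ ≠ 0 := fun h0 => B.P.ne_zero (su_injective b (by rw [hμ, h0, zero_smul]))
  have hμi : suVal b⁻¹ *ᵥ e = μ⁻¹ • e := by
    rw [eq_comm, inv_smul_eq_iff₀ hμ0, ← Matrix.mulVec_smul, ← hμ, Matrix.mulVec_mulVec,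
      suVal_inv_mul, Matrix.one_mulVec]
  ext l
  rw [mem_tSet hF B, mem_tSet hF B]
  constructor
  · rintro ⟨g, hg, he⟩
    refine ⟨b * g * b⁻¹, hg, ?_⟩
    rw [mulVec_mul, hμi, Matrix.mulVec_smul, mulVec_mul, he, Matrix.mulVec_smul, hμ, smul_smul, smul_smul,
      show μ⁻¹ * (l : F) * μ = (l : F) by field_simp]
  · rintro ⟨g, hg, he⟩
    refine ⟨b⁻¹ * g * b, by simpa [mem_conjH, mul_assoc] using hg, ?_⟩
    rw [mulVec_mul, hμ, Matrix.mulVec_smul, mulVec_mul, he, Matrix.mulVec_smul, hμi, smul_smul, smul_smul,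
      show μ * (l : F) * μ⁻¹ = (l : F) by field_simp]

theorem conj_Uni_mem {b x : SU 3 F q} (hb : b ∈ Bor B) (hx : x ∈ Uni hF B) :
    b * x * b⁻¹ ∈ Uni hF B := by
  obtain ⟨μ, hμ⟩ := hb
  have hμ0 : μ ≠ 0 := fun h0 => B.P.ne_zero (su_injective b (by rw [hμ, h0, zero_smul]))
  rw [mem_Uni_iff hF B] at hx ⊢
  have hμi : suVal b⁻¹ *ᵥ e = μ⁻¹ • e := by
    rw [eq_comm, inv_smul_eq_iff₀ hμ0, ← Matrix.mulVec_smul, ← hμ, Matrix.mulVec_mulVec,
      suVal_inv_mul, Matrix.one_mulVec]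
  rw [mulVec_mul, hμi, Matrix.mulVec_smul, mulVec_mul, hx, hμ, smul_smul, inv_mul_cancel₀ hμ0, one_smul]

theorem card_unip_conjH_bor (H : Subgroup (SU 3 F q)) {b : SU 3 F q} (hb : b ∈ Bor B) :
    Nat.card (conjH H b ⊓ Uni hF B : Subgroup (SU 3 F q)) =
      Nat.card (H ⊓ Uni hF B : Subgroup (SU 3 F q)) := by
  exact Nat.card_congr
    { toFun := fun x => ⟨b * x * b⁻¹, x.2.1, conj_Uni_mem hF B hb x.2.2⟩
      invFun := fun y => ⟨b⁻¹ * y * b, by simpa [mem_conjH, mul_assoc] using y.2.1,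
        by simpa using conj_Uni_mem hF B (inv_mem hb) y.2.2⟩
      left_inv := fun x => Subtype.ext (by simp [mul_assoc])
      right_inv := fun y => Subtype.ext (by simp [mul_assoc]) }

theorem card_aSet_conjH_bor (H : Subgroup (SU 3 F q)) {b : SU 3 F q} (hb : b ∈ Bor B) :
    Nat.card (aSet hF B (conjH H b)) = Nat.card (aSet hF B H) := by
  obtain ⟨μ, hμ⟩ := hb
  obtain ⟨α, β, hμ0, hβ, rfl⟩ := bor_form hF B hμ
  have hN : μ * cj μ ≠ 0 := mul_ne_zero hμ0 ((map_ne_zero (qFrob hF)).2 hμ0)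
  have key : ∀ c : F, c ∈ aSet hF B (conjH H (Um hF B α β * Tm hF B μ)) ↔ μ * cj μ * c ∈ aSet hF B H := by
    intro c
    rw [mem_aSet hF B, mem_aSet hF B, mem_conjH]
    have hs : μ * cj μ * c + cj (μ * cj μ * c) = 0 ↔ c + cj c = 0 := by
      rw [map_mul, map_mul, cj_cj hF, mul_comm (cj μ) μ, ← mul_add, mul_eq_zero, or_iff_right hN]
    rw [hs]
    exact and_congr_right fun hc => by rw [conj_center hF B hβ hμ0 hc]
  exact Nat.card_congr
    { toFun := fun c => ⟨μ * cj μ * c, (key _).1 c.2⟩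
      invFun := fun c => ⟨(μ * cj μ)⁻¹ * c, (key _).2 (by rw [mul_inv_cancel_left₀ hN]; exact c.2)⟩
      left_inv := fun c => Subtype.ext (inv_mul_cancel_left₀ hN _)
      right_inv := fun c => Subtype.ext (mul_inv_cancel_left₀ hN _) }

/-- The data at every line are the same. -/
theorem same_data {H : Subgroup (SU 3 F q)} (hH : (q ^ 3 + 1) * (q ^ 2 - 1) ≤ Nat.card H) (g : SU 3 F q) :
    Nat.card (conjH H g ⊓ Uni hF B : Subgroup (SU 3 F q)) =
        Nat.card (H ⊓ Uni hF B : Subgroup (SU 3 F q)) ∧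
      Nat.card (aSet hF B (conjH H g)) = Nat.card (aSet hF B H) ∧ tSet B (conjH H g) = tSet B H := by
  obtain ⟨k, hk, b, hb, rfl⟩ := trans_form hF B hH g
  rw [← conjH_mul, conjH_mem H hk]
  exact ⟨card_unip_conjH_bor hF B H hb, card_aSet_conjH_bor hF B H hb, tSet_conjH_bor hF B H hb⟩

/-- A torus element may be assumed diagonal. -/
theorem exists_torus {H : Subgroup (SU 3 F q)} {l : Fˣ} (hl : l ∈ tSet B H)
    (hth : th hF (l : F) ≠ 1) (hN : (l : F) * cj (l : F) ≠ 1) :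
    ∃ u ∈ Uni hF B, Tm hF B (l : F) ∈ conjH H u := by
  obtain ⟨g, hg, he⟩ := (mem_tSet hF B).1 hl
  obtain ⟨α, b, hl0, hb, rfl⟩ := bor_form hF B he
  set t := th hF (l : F) with ht
  set N := (l : F) * cj (l : F) with hNd
  have hNt : t * cj t = N := th_norm hF hl0
  have h1t : (1 : F) - t ≠ 0 := sub_ne_zero.2 (Ne.symm hth)
  have h1t' : (1 : F) - cj t ≠ 0 := by
    have := (map_ne_zero (qFrob hF)).2 h1t
    rwa [map_sub, map_one] at this
  have h1N : (1 : F) - N ≠ 0 := sub_ne_zero.2 (Ne.symm hN)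
  obtain ⟨α', hα'⟩ : ∃ x, x = α / (1 - t) := ⟨_, rfl⟩
  obtain ⟨b', hb'⟩ : ∃ x, x = (b + N * (α' * cj α') - t * (α' * cj α')) / (1 - N) := ⟨_, rfl⟩
  have hcN : cj N = N := by rw [hNd, map_mul, cj_cj hF, mul_comm]
  have hbb : b + cj b = -((1 - t) * (1 - cj t) * (α' * cj α')) := by
    have h1 : b + cj b + α * cj α = 0 := hb
    have h2 : α = (1 - t) * α' := by rw [hα', mul_div_cancel₀ _ h1t]
    rw [h2, map_mul, map_sub, map_one] at h1
    linear_combination h1
  have hok : OK hF α' b' := by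
    show b' + cj b' + α' * cj α' = 0
    rw [hb']
    simp only [map_div₀, map_sub, map_add, map_one, map_mul, hcN, cj_cj hF]
    rw [← add_div, div_add' _ _ _ h1N, div_eq_zero_iff]
    exact Or.inl (by linear_combination hbb - (α' * cj α') * hNt)
  refine ⟨Um hF B α' b', ⟨_, _, hok, rfl⟩, ?_⟩
  rw [mem_conjH]
  convert hg using 1
  have h2 := (hok.inv hF).scale hF hl0
  rw [mul_assoc, U_inv hF B hok,
    show Tm hF B (l : F) * Um hF B (-α') (cj b') =
      (Tm hF B (l : F) * Um hF B (-α') (cj b') * (Tm hF B (l : F))⁻¹) * Tm hF B (l : F) by group,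
    T_conj hF B hl0 (hok.inv hF), ← mul_assoc, U_mul hF B hok h2]
  congr 1
  congr 1
  · rw [← ht, hα']; field_simp; ring
  · have h3 : cj b' = -b' - α' * cj α' := by
      have : b' + cj b' + α' * cj α' = 0 := hok
      linear_combination this
    rw [← ht, ← hNd, h3]
    have h4 : b' * (1 - N) = b + N * (α' * cj α') - t * (α' * cj α') := by
      rw [hb']; exact div_mul_cancel₀ _ h1N
    linear_combination h4

end Cfsg.Agent.Transfer.U3Min
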