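import Cfsg.Agent.Lib.Transfer.PSUThreeIndex.Conj

/-!
A transitive subgroup of odd characteristic without transvections pairs the points of the fixed line of an
involution; the pairing is equivariant under the torus of every pair, which bounds `q`.
-/

set_option autoImplicit false
set_option linter.unusedSectionVars false
set_option maxHeartbeats 1000000

namespace Cfsg.Agent.Transfer.U3Min

open Matrix Cfsg Cfsg.Agent.Classical Cfsg.Agent.Classical.PSUAut Cfsg.Agent.Fus.UnitN Cfsg.Agent.Lie.SUGen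
  Cfsg.Agent.Lie.SU3Pres

variable {F : Type*} [Field F] [Fintype F] {q : ℕ} (hF : Fintype.card F = q ^ 2)

local notation "cj" => qFrob hF
local notation "h" => hermForm 3 F q

variable {e n f : Fin 3 → F} (B : Frame3 q e n f)

include hF B

theorem th_neg_one : th hF (-1 : F) = -1 := by simp [th]

theorem OK_flip {α b : F} (hb : OK hF α b) : OK hF (-α) b := by
  show b + cj b + -α * cj (-α) = 0
  rw [map_neg, neg_mul_neg]; exact hb

theorem t0_U {α b : F} (hb : OK hF α b) :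
    Tm hF B (-1) * Um hF B α b * (Tm hF B (-1))⁻¹ = Um hF B (-α) b := by
  rw [T_conj hF B (neg_ne_zero.2 one_ne_zero) hb, th_neg_one hF B, map_neg, map_one]
  congr 1 <;> ring

theorem neg_one_ne (h2 : (2 : F) ≠ 0) : (-1 : F) ≠ 1 := fun h0 => h2 (by linear_combination -h0)

variable {H : Subgroup (SU 3 F q)}

/-- The elements of the stabiliser commuting with the involution are diagonal. -/
theorem torus_of_commute (h2 : (2 : F) ≠ 0) (hA : aSet hF B H = ⊥)
    (hT : ∀ l ∈ tSet B H, Tm hF B ((l : Fˣ) : F) ∈ H) {g : SU 3 F q} (hg : g ∈ H) {l : F}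
    (he : suVal g *ᵥ e = l • e) (hc : g * Tm hF B (-1) = Tm hF B (-1) * g) : g = Tm hF B l := by
  obtain ⟨α, b, hl, hb, rfl⟩ := bor_form hF B he
  have hlT : Units.mk0 l hl ∈ tSet B H := (mem_tSet hF B).2 ⟨_, hg, he⟩
  have hU : Um hF B α b ∈ H := by
    have h0 := mul_mem hg (inv_mem (hT _ hlT))
    rwa [Units.val_mk0, mul_inv_cancel_right] at h0
  have hm1 : (-1 : F) ≠ 0 := neg_ne_zero.2 one_ne_zero
  have h1 : Tm hF B (-1) * (Um hF B α b * Tm hF B l) =
      Um hF B (-α) b * (Tm hF B (-1) * Tm hF B l) := by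
    rw [← t0_U hF B hb]; group
  rw [← hc, mul_assoc, T_mul hF B hm1 hl, T_mul hF B hl hm1, mul_comm l] at h1
  obtain ⟨hα, -, -⟩ := UT_inj hF B hb (mul_ne_zero hm1 hl) (OK_flip hF B hb) (mul_ne_zero hm1 hl) h1
  have hα0 : α = 0 := (mul_eq_zero.1 (show (2 : F) * α = 0 by linear_combination hα)).resolve_left h2
  subst hα0
  have hb0 : b ∈ aSet hF B H :=
    ⟨by have h3 : b + cj b + 0 * cj 0 = 0 := hb; simpa using h3, hU⟩
  rw [hA, AddSubgroup.mem_bot] at hb0
  rw [hb0, U_zero hF B, one_mul]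

theorem half_mem {W : AddSubgroup F} {α : F} {p : ℕ} [CharP F p] (hodd : Odd p) (hα : α ∈ W) :
    ∃ β ∈ W, 2 * β + α = 0 := by
  obtain ⟨k, rfl⟩ := hodd
  refine ⟨k • α, nsmul_mem hα _, ?_⟩
  have h1 : ((2 * k + 1 : ℕ) : F) = 0 := CharP.cast_eq_zero F _
  push_cast at h1
  rw [nsmul_eq_mul]
  linear_combination α * h1

/-- Every involution of the stabiliser is conjugate to the diagonal one inside the subgroup. -/
theorem invol_conj (h2 : (2 : F) ≠ 0) (hA : aSet hF B H = ⊥) (ht0 : Tm hF B (-1) ∈ H)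
    {x : SU 3 F q} (hx : x ∈ H) (hxB : x ∈ Bor B) (hx1 : x ≠ 1) (hxx : x * x = 1) :
    ∃ s ∈ H, s ∈ Bor B ∧ s * x * s⁻¹ = Tm hF B (-1) := by
  have hm1 : (-1 : F) ≠ 0 := neg_ne_zero.2 one_ne_zero
  obtain ⟨l, he⟩ := hxB
  obtain ⟨α, b, hl, hb, rfl⟩ := bor_form hF B he
  have hsq : Um hF B α b * Um hF B (th hF l * α) (l * cj l * b) * Tm hF B (l * l) =
      Um hF B 0 0 * Tm hF B 1 := by
    rw [← T_mul hF B hl hl, ← T_conj hF B hl hb, U_zero hF B, T_one hF B, mul_one, ← hxx]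
    group
  rw [U_mul hF B hb (hb.scale hF hl)] at hsq
  obtain ⟨h0α, h0b, hll⟩ := UT_inj hF B (hb.mul hF (hb.scale hF hl)) (mul_ne_zero hl hl) (OK.zero hF)
    one_ne_zero hsq
  have hl' : l = -1 := by
    rcases mul_self_eq_one_iff.1 hll with rfl | rfl
    · exfalso
      rw [th_one hF] at h0α
      have hα0 : α = 0 := (mul_eq_zero.1 (show (2 : F) * α = 0 by linear_combination h0α)).resolve_left h2
      subst hα0
      simp only [map_one, map_zero, zero_mul, sub_zero, one_mul] at h0b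
      have hb0 : b = 0 := (mul_eq_zero.1 (show (2 : F) * b = 0 by linear_combination h0b)).resolve_left h2
      subst hb0
      exact hx1 (by rw [U_zero hF B, T_one hF B, one_mul])
    · rfl
  subst hl'
  have hU : Um hF B α b ∈ H := by
    have h0 := mul_mem hx (inv_mem ht0)
    rwa [mul_inv_cancel_right] at h0
  obtain ⟨p, hp⟩ := CharP.exists F
  have hodd : Odd p := by
    rcases (CharP.char_is_prime F p).eq_two_or_odd' with rfl | h0
    · exact absurd (CharP.cast_eq_zero F 2) (by exact_mod_cast h2)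
    · exact h0
  obtain ⟨β, ⟨c, hc, hcH⟩, hβ⟩ := half_mem hF B hodd (show α ∈ wSet hF B H from ⟨b, hb, hU⟩)
  have hcv : OK hF (-β) (cj c) := hc.inv hF
  have hprod := (hc.mul hF hb).mul hF (OK_flip hF B hcv)
  have key : Um hF B β c * (Um hF B α b * Tm hF B (-1)) * (Um hF B β c)⁻¹ =
      Um hF B (β + α + - -β) (c + b - cj β * α + cj c - cj (β + α) * - -β) * Tm hF B (-1) := by
    rw [U_inv hF B hc, mul_assoc, mul_assoc,
      show Tm hF B (-1) * Um hF B (-β) (cj c) =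
        Tm hF B (-1) * Um hF B (-β) (cj c) * (Tm hF B (-1))⁻¹ * Tm hF B (-1) by group,
      t0_U hF B hcv, ← mul_assoc, ← mul_assoc, U_mul hF B hc hb,
      U_mul hF B (hc.mul hF hb) (OK_flip hF B hcv)]
  obtain ⟨b'', hb''⟩ : ∃ b'', b'' = c + b - cj β * α + cj c - cj (β + α) * - -β := ⟨_, rfl⟩
  rw [← hb''] at key hprod
  rw [show β + α + - -β = 0 by linear_combination hβ] at key hprod
  have hbA : b'' ∈ aSet hF B H := by
    refine ⟨by have h3 : b'' + cj b'' + 0 * cj 0 = 0 := hprod; simpa using h3, ?_⟩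
    have h3 := mul_mem (mul_mem (mul_mem hcH hx) (inv_mem hcH)) (inv_mem ht0)
    rwa [key, mul_inv_cancel_right] at h3
  rw [hA, AddSubgroup.mem_bot] at hbA
  rw [hbA, U_zero hF B, one_mul] at key
  exact ⟨_, hcH, ⟨1, by rw [U_e hF B hc, one_smul]⟩, key⟩

/-- The involution fixes the line spanned by `e` and `f`. -/
theorem line_shape (h2 : (2 : F) ≠ 0) {k : SU 3 F q} (hk : k * Tm hF B (-1) = Tm hF B (-1) * k)
    (x z : F) : ∃ x' z', suVal k *ᵥ co e n f x 0 z = co e n f x' 0 z' := by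
  obtain ⟨x', y', z', hv⟩ := exists_co hF B (suVal k *ᵥ co e n f x 0 z)
  have hm1 : (-1 : F) ≠ 0 := neg_ne_zero.2 one_ne_zero
  have h1 := congrArg (fun s => suVal s *ᵥ co e n f x 0 z) hk
  simp only [mulVec_mul] at h1
  rw [hv, T_act hF B hm1, T_act hF B hm1, map_neg, map_one, neg_div_neg_eq, div_one, inv_neg, inv_one,
    show co e n f (-1 * x) (1 * 0) (-1 * z) = (-1 : F) • co e n f x 0 z by
      rw [smul_co]; congr 1; ring,
    Matrix.mulVec_smul, hv, smul_co] at h1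
  obtain ⟨-, hy, -⟩ := co_inj hF B h1
  refine ⟨x', z', ?_⟩
  rw [hv, (mul_eq_zero.1 (show (2 : F) * y' = 0 by linear_combination -hy)).resolve_left h2]

/-- An element of the subgroup carrying `e` to the point with parameter `c`. -/
theorem exists_reach (h2 : (2 : F) ≠ 0) (hH : ∀ g : SU 3 F q, ∃ k ∈ H, ∃ b ∈ Bor B, g = k * b)
    (hA : aSet hF B H = ⊥) (ht0 : Tm hF B (-1) ∈ H) {c : F} (hc : c + cj c = 0) :
    ∃ k ∈ H, k * Tm hF B (-1) = Tm hF B (-1) * k ∧
      ∃ a : F, a ≠ 0 ∧ suVal k *ᵥ e = a • co e n f c 0 1 := by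
  set t₀ := Tm hF B (-1) with ht
  have hm1 : (-1 : F) ≠ 0 := neg_ne_zero.2 one_ne_zero
  set g := Um hF B 0 c * Wm hF B with hgd
  have hc1 : t₀ * Um hF B 0 c = Um hF B 0 c * t₀ := by
    rw [← mul_inv_eq_iff_eq_mul, ht, t0_U hF B (OK.skew hF hc), neg_zero]
  have hc2 : t₀ * Wm hF B = Wm hF B * t₀ := by
    have h3 := W_conj hF B hm1
    rw [map_neg, map_one, inv_neg, inv_one, ← ht] at h3
    calc t₀ * Wm hF B = Wm hF B * Wm hF B * (t₀ * Wm hF B) := by rw [W_sq hF B, one_mul]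
      _ = Wm hF B * (Wm hF B * t₀ * Wm hF B) := by group
      _ = _ := by rw [h3]
  have hcg : t₀ * g = g * t₀ := by
    rw [hgd, ← mul_assoc, hc1, mul_assoc, hc2, ← mul_assoc]
  obtain ⟨k, hk, b, hb, hgb⟩ := hH g
  set x := k⁻¹ * t₀ * k with hx
  have hxb : x = b * t₀ * b⁻¹ := by
    have hk' : k = g * b⁻¹ := by rw [hgb, mul_inv_cancel_right]
    rw [hx, hk', show (g * b⁻¹)⁻¹ * t₀ * (g * b⁻¹) = b * (g⁻¹ * (t₀ * g)) * b⁻¹ by group, hcg,
      inv_mul_cancel_left]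
  have hxB : x ∈ Bor B := hxb ▸ mul_mem (mul_mem hb ⟨_, T_e hF B hm1⟩) (inv_mem hb)
  have hne : t₀ ≠ 1 := by
    intro h0
    have h1 := congrArg (fun s => suVal s *ᵥ co e n f 1 0 0) (ht.symm.trans h0)
    simp only [suVal_one', Matrix.one_mulVec, T_act hF B hm1] at h1
    exact neg_one_ne hF B h2 (by simpa using (co_inj hF B h1).1)
  have htt : t₀ * t₀ = 1 := by rw [ht, T_mul hF B hm1 hm1, neg_one_mul, neg_neg, T_one hF B]
  have hxH : x ∈ H := mul_mem (mul_mem (inv_mem hk) ht0) hk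
  have hx1 : x ≠ 1 := fun h0 => hne (by rw [hxb, conj_eq_one_iff] at h0; exact h0)
  have hxx : x * x = 1 := by
    rw [hx, show k⁻¹ * t₀ * k * (k⁻¹ * t₀ * k) = k⁻¹ * (t₀ * t₀) * k by group, htt]; group
  obtain ⟨s, hs, hsB, hsx⟩ := invol_conj hF B h2 hA ht0 hxH hxB hx1 hxx
  refine ⟨k * s⁻¹, mul_mem hk (inv_mem hs), ?_, ?_⟩
  · calc k * s⁻¹ * t₀ = k * s⁻¹ * (s * x * s⁻¹) := by rw [hsx]
      _ = t₀ * (k * s⁻¹) := by rw [hx]; group
  · obtain ⟨a, ha⟩ := (mul_mem (inv_mem hb) (inv_mem hsB) : b⁻¹ * s⁻¹ ∈ Bor B)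
    refine ⟨a, fun h0 => B.P.ne_zero (su_injective _ (by rw [ha, h0, zero_smul])), ?_⟩
    rw [show k * s⁻¹ = g * (b⁻¹ * s⁻¹) by rw [hgb]; group, mulVec_mul, ha, Matrix.mulVec_smul, hgd,
      mulVec_mul]
    congr 1
    have h3 : suVal (Wm hF B) *ᵥ e = co e n f 0 0 1 := by simpa [co] using W_act hF B 1 0 0
    rw [h3, U_act hF B (OK.skew hF hc)]
    congr 1 <;> simp

theorem co_lin (k : SU 3 F q) {α γ β δ : F} (he : suVal k *ᵥ e = co e n f α 0 γ)
    (hf : suVal k *ᵥ f = co e n f β 0 δ) (x z : F) :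
    suVal k *ᵥ co e n f x 0 z = co e n f (x * α + z * β) 0 (x * γ + z * δ) := by
  rw [show co e n f x 0 z = x • e + z • f by simp [co], Matrix.mulVec_add, Matrix.mulVec_smul,
    Matrix.mulVec_smul, he, hf, smul_co, smul_co, co_add]
  simp

theorem skew_param (k : SU 3 F q) {v : Fin 3 → F} (hv : h v v = 0) {x z : F} (hk : suVal k *ᵥ v = co e n f x 0 z)
    (hz : z ≠ 0) : x / z + cj (x / z) = 0 := by
  have h1 : h (suVal k *ᵥ v) (suVal k *ᵥ v) = 0 := by rw [su_form, hv]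
  rw [hk, B.h_co hF, map_zero, mul_zero, add_zero] at h1
  have hz' : cj z ≠ 0 := (map_ne_zero (qFrob hF)).2 hz
  rw [map_div₀]; field_simp; linear_combination h1

/-- The pairing on the line. -/
theorem exists_pairing (h2 : (2 : F) ≠ 0) (hH : ∀ g : SU 3 F q, ∃ k ∈ H, ∃ b ∈ Bor B, g = k * b)
    (hA : aSet hF B H = ⊥) (ht0 : Tm hF B (-1) ∈ H)
    (hT : ∀ l ∈ tSet B H, Tm hF B ((l : Fˣ) : F) ∈ H)
    {l₀ : Fˣ} (hl₀ : l₀ ∈ tSet B H) (hN : (l₀ : F) * cj (l₀ : F) ≠ 1) :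
    ∃ π : F → F, ∀ c, c + cj c = 0 → c ≠ 0 → π c ≠ 0 ∧ π c ≠ c ∧
      ∀ k ∈ H, k * Tm hF B (-1) = Tm hF B (-1) * k → ∀ a : F, suVal k *ᵥ e = a • co e n f c 0 1 →
        ∃ d : F, d ≠ 0 ∧ suVal k *ᵥ f = d • co e n f (π c) 0 1 := by
  classical
  set t₀ := Tm hF B (-1) with ht
  have hm1 : (-1 : F) ≠ 0 := neg_ne_zero.2 one_ne_zero
  have hl0 : (l₀ : F) ≠ 0 := l₀.ne_zero
  have hl0' : cj (l₀ : F) ≠ 0 := (map_ne_zero (qFrob hF)).2 hl0
  have hTc : Tm hF B (l₀ : F) * t₀ = t₀ * Tm hF B (l₀ : F) := by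
    rw [ht, T_mul hF B hl0 hm1, T_mul hF B hm1 hl0, mul_comm]
  have hTf : suVal (Tm hF B (l₀ : F)) *ᵥ f = (cj (l₀ : F))⁻¹ • f := by
    simpa [co] using T_act hF B hl0 0 0 1
  -- a map of `f` to the line of `e` maps `e` to the line of `f`
  have swap : ∀ k ∈ H, k * t₀ = t₀ * k → ∀ β : F, suVal k *ᵥ f = β • e → ∃ z : F, suVal k *ᵥ e = z • f := by
    intro k hk hkc β hf
    have hkc' : k⁻¹ * t₀ = t₀ * k⁻¹ := by
      rw [inv_mul_eq_iff_eq_mul, ← mul_assoc, hkc, mul_inv_cancel_right]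
    set g := k * Tm hF B (l₀ : F) * k⁻¹ with hgd
    have hg : g ∈ H := mul_mem (mul_mem hk (hT _ hl₀)) (inv_mem hk)
    have hgc : g * t₀ = t₀ * g := by
      rw [hgd, mul_assoc _ k⁻¹, hkc', ← mul_assoc, mul_assoc k, hTc, ← mul_assoc, hkc]; group
    have hgk : g * k = k * Tm hF B (l₀ : F) := by rw [hgd, inv_mul_cancel_right]
    have hβ : β ≠ 0 := fun h0 => (B.P.swap hF).ne_zero (su_injective k (by rw [hf, h0, zero_smul]))
    have hge : suVal g *ᵥ e = (cj (l₀ : F))⁻¹ • e := by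
      have h1 := congrArg (fun s => suVal s *ᵥ f) hgk
      simp only [mulVec_mul, hTf, Matrix.mulVec_smul, hf] at h1
      rw [smul_comm _ β] at h1
      exact smul_right_injective _ hβ h1
    have hgT := torus_of_commute hF B h2 hA hT hg hge hgc
    obtain ⟨x, z, hxz⟩ := line_shape hF B h2 hkc 1 0
    rw [co_e] at hxz
    have h1 := congrArg (fun s => suVal s *ᵥ e) hgk
    simp only [mulVec_mul, T_e hF B hl0, Matrix.mulVec_smul, hxz, hgT] at h1
    rw [T_act hF B (inv_ne_zero hl0'), smul_co] at h1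
    obtain ⟨hx, -, -⟩ := co_inj hF B h1
    refine ⟨z, ?_⟩
    have hx0 : x = 0 := by
      by_contra hx0
      have h3 := mul_right_cancel₀ hx0 hx
      exact hN (by field_simp at h3; linear_combination -h3)
    rw [hxz, hx0]; simp [co]
  have key : ∀ c : F, ∃ c' : F, c + cj c = 0 → c ≠ 0 → c' ≠ 0 ∧ c' ≠ c ∧
      ∀ k ∈ H, k * t₀ = t₀ * k → ∀ a : F, suVal k *ᵥ e = a • co e n f c 0 1 →
        ∃ d : F, d ≠ 0 ∧ suVal k *ᵥ f = d • co e n f c' 0 1 := by
    intro c
    by_cases hc : c + cj c = 0 ∧ c ≠ 0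
    swap
    · exact ⟨0, fun h1 h1' => absurd ⟨h1, h1'⟩ hc⟩
    obtain ⟨hc, hc0⟩ := hc
    obtain ⟨k, hk, hkc, a, ha, hke⟩ := exists_reach hF B h2 hH hA ht0 hc
    obtain ⟨β, δ, hkf⟩ := line_shape hF B h2 hkc 0 1
    rw [co_f] at hkf
    have hδ : δ ≠ 0 := by
      intro h0
      obtain ⟨z, hz⟩ := swap k hk hkc β (by rw [hkf, h0]; simp [co])
      rw [hke, smul_co, show z • f = co e n f 0 0 z by simp [co]] at hz
      obtain ⟨h3, -, -⟩ := co_inj hF B hz
      exact mul_ne_zero ha hc0 h3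
    have hβ : β ≠ 0 := by
      intro h0
      obtain ⟨k0, hk0, hk0c, a0, ha0, hk0e⟩ := exists_reach hF B h2 hH hA ht0 (c := 0) (by simp)
      rw [show co e n f 0 0 1 = f from co_f] at hk0e
      have hk0c' : k0⁻¹ * t₀ = t₀ * k0⁻¹ := by
        rw [inv_mul_eq_iff_eq_mul, ← mul_assoc, hk0c, mul_inv_cancel_right]
      have hinv : suVal k0⁻¹ *ᵥ f = a0⁻¹ • e := by
        rw [eq_comm, inv_smul_eq_iff₀ ha0, ← Matrix.mulVec_smul, ← hk0e, Matrix.mulVec_mulVec,
          suVal_inv_mul, Matrix.one_mulVec]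
      obtain ⟨z0, hz0⟩ := swap _ (inv_mem hk0) hk0c' _ hinv
      obtain ⟨z, hz⟩ := swap (k0⁻¹ * k) (mul_mem (inv_mem hk0) hk)
        (by rw [mul_assoc, hkc, ← mul_assoc, hk0c', mul_assoc]) (δ * a0⁻¹) (by
        rw [mulVec_mul, hkf, h0, show co e n f 0 0 δ = δ • f by simp [co], Matrix.mulVec_smul, hinv, smul_smul])
      have hz0' : z0 ≠ 0 := fun h1 => B.P.ne_zero (su_injective _ (by rw [hz0, h1, zero_smul]))
      have h3 : suVal k0 *ᵥ f = z0⁻¹ • e := by
        rw [eq_comm, inv_smul_eq_iff₀ hz0', ← Matrix.mulVec_smul, ← hz0, Matrix.mulVec_mulVec,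
          suVal_mul_inv, Matrix.one_mulVec]
      have h4 : suVal k *ᵥ e = (z * z0⁻¹) • e := by
        rw [show k = k0 * (k0⁻¹ * k) by group, mulVec_mul, hz, Matrix.mulVec_smul, h3, smul_smul]
      rw [hke, smul_co, show (z * z0⁻¹) • e = co e n f (z * z0⁻¹) 0 0 by simp [co]] at h4
      exact ha ((mul_one a).symm.trans (co_inj hF B h4).2.2)
    have hc' : β / δ ≠ c := by
      intro h0
      have h3 : h (suVal k *ᵥ e) (suVal k *ᵥ f) = 1 := by rw [su_form, B.P.ef]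
      rw [hke, hkf, ← (eq_div_iff hδ).1 h0.symm, smul_co, B.h_co hF, map_mul] at h3
      simp only [mul_zero, mul_one, map_zero, add_zero] at h3
      exact zero_ne_one (α := F) (by linear_combination h3 - (a * cj δ) * hc)
    refine ⟨β / δ, fun _ _ => ⟨div_ne_zero hβ hδ, hc', fun k' hk' hk'c a' hk'e => ?_⟩⟩
    have ha' : a' ≠ 0 := fun h0 => B.P.ne_zero (su_injective k' (by rw [hk'e, h0, zero_smul]))
    have hgd : suVal (k⁻¹ * k') *ᵥ e = (a' * a⁻¹) • e := by
      rw [mulVec_mul, hk'e, show co e n f c 0 1 = a⁻¹ • (suVal k *ᵥ e) by rw [hke, inv_smul_smul₀ ha],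
        smul_smul, Matrix.mulVec_smul, Matrix.mulVec_mulVec, suVal_inv_mul, Matrix.one_mulVec]
    have hgT := torus_of_commute hF B h2 hA hT (mul_mem (inv_mem hk) hk') hgd (by
      rw [mul_assoc, hk'c, ← mul_assoc, ← mul_assoc]
      congr 1
      rw [inv_mul_eq_iff_eq_mul, ← mul_assoc, hkc, mul_inv_cancel_right])
    have hlne : a' * a⁻¹ ≠ 0 := mul_ne_zero ha' (inv_ne_zero ha)
    have hTf' : suVal (Tm hF B (a' * a⁻¹)) *ᵥ f = (cj (a' * a⁻¹))⁻¹ • f := by
      simpa [co] using T_act hF B hlne 0 0 1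
    refine ⟨(cj (a' * a⁻¹))⁻¹ * δ, mul_ne_zero (inv_ne_zero ((map_ne_zero (qFrob hF)).2 hlne)) hδ, ?_⟩
    rw [show k' = k * (k⁻¹ * k') by group, hgT, mulVec_mul, hTf', Matrix.mulVec_smul, hkf, mul_smul,
      smul_co, smul_co, smul_co]
    congr 1 <;> first | ring1 | field_simp
  choose π hπ using key
  exact ⟨π, hπ⟩

/-- The bound. -/
theorem line_bound (h2 : (2 : F) ≠ 0) (hH : ∀ g : SU 3 F q, ∃ k ∈ H, ∃ b ∈ Bor B, g = k * b)
    (hA : aSet hF B H = ⊥) (ht0 : Tm hF B (-1) ∈ H)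
    (hT : ∀ l ∈ tSet B H, Tm hF B ((l : Fˣ) : F) ∈ H)
    {l₀ : Fˣ} (hl₀ : l₀ ∈ tSet B H) (hN : (l₀ : F) * cj (l₀ : F) ≠ 1) :
    ∃ r : ℕ, r * Nat.card ((tSet B H).map (MonoidHom.id Fˣ * Units.map (cj : F →* F))) ≤ q - 1 ∧
      q - 3 ≤ 2 * (r * r) := by
  classical
  obtain ⟨π, hπ⟩ := exists_pairing hF B h2 hH hA ht0 hT hl₀ hN
  set t₀ := Tm hF B (-1) with ht
  have hm1 : (-1 : F) ≠ 0 := neg_ne_zero.2 one_ne_zero
  set D := (tSet B H).map (MonoidHom.id Fˣ * Units.map (cj : F →* F)) with hD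
  set Sk : Finset F := Finset.univ.filter (fun c => c + cj c = 0 ∧ c ≠ 0) with hSk
  have hmem : ∀ {c}, c ∈ Sk ↔ c + cj c = 0 ∧ c ≠ 0 := fun {c} => by simp [hSk]
  have hSkc : Sk.card = q - 1 := by
    have h1 : insert 0 Sk = Finset.univ.filter (fun c : F => c + cj c = 0) := by
      ext c
      simp only [Finset.mem_insert, hmem, Finset.mem_filter, Finset.mem_univ, true_and]
      by_cases hc : c = 0 <;> simp [hc]
    have h3 := congrArg Finset.card h1
    have h4 : (Finset.univ.filter (fun c : F => c + cj c = 0)).card = q := by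
      rw [← Fintype.card_subtype, ← Nat.card_eq_fintype_card]
      exact Cfsg.Agent.Lie.MinIndexUnit.card_skew hF
    rw [Finset.card_insert_of_notMem (by simp [hmem]), h4] at h3
    omega
  set κ : F → F := fun c => π c / c with hκ
  -- equivariance
  have hequiv : ∀ c ∈ Sk, ∀ d ∈ D, ((d : Fˣ) : F) * c ∈ Sk ∧ κ ((d : F) * c) = κ c := by
    intro c hc d hd
    obtain ⟨hcs, hc0⟩ := hmem.1 hc
    obtain ⟨l, hl, rfl⟩ := hd
    have hl0 : (l : F) ≠ 0 := l.ne_zero
    have hl0' : cj (l : F) ≠ 0 := (map_ne_zero (qFrob hF)).2 hl0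
    have hd : (((MonoidHom.id Fˣ * Units.map (cj : F →* F)) l : Fˣ) : F) = (l : F) * cj (l : F) := rfl
    rw [hd]
    have hs : (l : F) * cj (l : F) * c + cj ((l : F) * cj (l : F) * c) = 0 := by
      rw [map_mul, map_mul, cj_cj hF]; linear_combination ((l : F) * cj (l : F)) * hcs
    have hne : (l : F) * cj (l : F) * c ≠ 0 := mul_ne_zero (mul_ne_zero hl0 hl0') hc0
    refine ⟨hmem.2 ⟨hs, hne⟩, ?_⟩
    obtain ⟨k, hk, hkc, a, ha, hke⟩ := exists_reach hF B h2 hH hA ht0 hcs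
    obtain ⟨-, -, h3⟩ := hπ c hcs hc0
    obtain ⟨dd, hdd, hkf⟩ := h3 k hk hkc a hke
    obtain ⟨-, -, h4⟩ := hπ _ hs hne
    obtain ⟨d2, hd2, hkf2⟩ := h4 (Tm hF B (l : F) * k) (mul_mem (hT _ hl) hk)
      (by rw [mul_assoc, hkc, ← mul_assoc, ht, T_mul hF B hl0 hm1, mul_comm (l : F), ← T_mul hF B hm1 hl0,
        mul_assoc])
      (a / cj (l : F)) (by
        rw [mulVec_mul, hke, Matrix.mulVec_smul, T_act hF B hl0, smul_co, smul_co]
        congr 1 <;> first | ring1 | field_simp)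
    rw [mulVec_mul, hkf, Matrix.mulVec_smul, T_act hF B hl0, smul_co, smul_co] at hkf2
    obtain ⟨e0, -, e2⟩ := co_inj hF B hkf2
    rw [mul_one, mul_one] at e2
    rw [← e2] at e0
    simp only [hκ]
    rw [div_eq_div_iff hne hc0]
    field_simp at e0
    linear_combination -c * e0
  set R := Sk.image κ with hR
  refine ⟨R.card, ?_, ?_⟩
  · rw [← hSkc, Finset.card_eq_sum_card_image κ Sk, ← smul_eq_mul, ← Finset.sum_const]
    refine Finset.sum_le_sum fun ρ hρ => ?_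
    obtain ⟨c, hc, rfl⟩ := Finset.mem_image.1 hρ
    rw [Nat.card_eq_fintype_card, ← Finset.card_univ]
    refine Finset.card_le_card_of_injOn (fun d : D => ((d.1 : Fˣ) : F) * c) (fun d _ => ?_) ?_
    · rw [Finset.mem_coe, Finset.mem_filter]; exact hequiv c hc d.1 d.2
    · intro x _ y _ hxy
      exact Subtype.ext (Units.ext (mul_right_cancel₀ (hmem.1 hc).2 hxy))
  · obtain ⟨c0, hc00, hc0⟩ := exists_trace_zero hF
    obtain ⟨g, hg, hgc, a, ha, hge⟩ := exists_reach hF B h2 hH hA ht0 hc0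
    obtain ⟨hπ0, hπne, h3⟩ := hπ c0 hc0 hc00
    obtain ⟨d, hd, hgf⟩ := h3 g hg hgc a hge
    rw [smul_co, mul_zero, mul_one] at hge hgf
    set α := a * c0 with hαd
    set β := d * π c0 with hβd
    have hα : α ≠ 0 := mul_ne_zero ha hc00
    set good := Sk.filter (fun u => u * α + β ≠ 0 ∧ u * a + d ≠ 0) with hgood
    have hcard : q - 3 ≤ good.card := by
      have h4 : Sk ⊆ good ∪ {-β / α, -d / a} := by
        intro u hu
        rw [Finset.mem_union, hgood, Finset.mem_filter]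
        by_cases h5 : u * α + β = 0
        · right; rw [Finset.mem_insert]; left; rw [eq_div_iff hα]; linear_combination h5
        by_cases h6 : u * a + d = 0
        · right; rw [Finset.mem_insert]; right; rw [Finset.mem_singleton, eq_div_iff ha]; linear_combination h6
        exact Or.inl ⟨hu, h5, h6⟩
      have h5 := (Finset.card_le_card h4).trans (Finset.card_union_le _ _)
      have h6 : ({-β / α, -d / a} : Finset F).card ≤ 2 := Finset.card_le_two
      omega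
    set M : F → F := fun u => (u * α + β) / (u * a + d) with hM
    -- every good parameter satisfies one of few quadratics
    have hrel : ∀ u ∈ good, M u ∈ Sk ∧ κ u ≠ 0 ∧ κ (M u) ≠ 1 ∧
        (u * κ u * α + β) * (u * a + d) = κ (M u) * (u * α + β) * (u * κ u * a + d) := by
      intro u hu
      obtain ⟨huS, hu1, hu2⟩ := Finset.mem_filter.1 hu
      obtain ⟨hus, hu0⟩ := hmem.1 huS
      obtain ⟨hπu, -, h4⟩ := hπ u hus hu0
      obtain ⟨k, hk, hkc, b, hb, hke⟩ := exists_reach hF B h2 hH hA ht0 hus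
      obtain ⟨d', hd', hkf⟩ := h4 k hk hkc b hke
      have hlin := co_lin hF B g hge hgf
      have hge' : suVal (g * k) *ᵥ e = co e n f (b * (u * α + β)) 0 (b * (u * a + d)) := by
        rw [mulVec_mul, hke, Matrix.mulVec_smul, hlin, smul_co, mul_zero, one_mul, one_mul]
      have hMs : M u + cj (M u) = 0 := by
        have h5 := skew_param hF B (g * k) B.P.ee hge' (mul_ne_zero hb hu2)
        rwa [mul_div_mul_left _ _ hb] at h5
      have hM0 : M u ≠ 0 := div_ne_zero hu1 hu2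
      obtain ⟨hπM, hπMne, h6⟩ := hπ (M u) hMs hM0
      obtain ⟨d'', hd'', hf''⟩ := h6 (g * k) (mul_mem hg hk)
        (by rw [mul_assoc, hkc, ← mul_assoc, hgc, mul_assoc]) (b * (u * a + d))
        (by rw [hge', smul_co, mul_zero, mul_one, hM]; congr 1; field_simp)
      rw [mulVec_mul, hkf, Matrix.mulVec_smul, hlin, smul_co, smul_co, mul_zero, mul_one, one_mul, one_mul] at hf''
      obtain ⟨e0, -, e2⟩ := co_inj hF B hf''
      rw [← e2] at e0
      refine ⟨hmem.2 ⟨hMs, hM0⟩, div_ne_zero hπu hu0, fun h1 => hπMne ((div_eq_one_iff_eq hM0).1 h1), ?_⟩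
      have e0' : π u * α + β = (π u * a + d) * π (M u) := mul_left_cancel₀ hd' (by linear_combination e0)
      have e1 : u * κ u = π u := mul_div_cancel₀ _ hu0
      have e3 : κ (M u) * (u * α + β) = π (M u) * (u * a + d) := by
        simp only [hκ, hM]; field_simp
      rw [e1, e3]
      linear_combination (u * a + d) * e0'
    have hmaps : Set.MapsTo (fun u => (κ u, κ (M u))) (good : Set F) ((R ×ˢ R : Finset (F × F)) : Set (F × F)) := by
      intro u hu
      simp only [Finset.coe_product, Set.mem_prod, Finset.mem_coe]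
      exact ⟨Finset.mem_image_of_mem _ (Finset.mem_filter.1 hu).1, Finset.mem_image_of_mem _ (hrel u hu).1⟩
    have hfib : ∀ pr ∈ R ×ˢ R, (good.filter (fun u => (κ u, κ (M u)) = pr)).card ≤ 2 := by
      rintro ⟨k', ρ⟩ -
      set Q : Finset F := good.filter (fun u => (κ u, κ (M u)) = (k', ρ)) with hQ
      by_contra hlt
      push Not at hlt
      obtain ⟨u, hu, v, hv, w, hw, huv, huw, hvw⟩ := Finset.two_lt_card.1 hlt
      have key : ∀ z ∈ Q, k' ≠ 0 ∧ ρ ≠ 1 ∧ (k' * α * a * (1 - ρ)) * (z * z) +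
          (k' * α * d + β * a - ρ * α * d - ρ * β * k' * a) * z + β * d * (1 - ρ) = 0 := by
        intro z hz
        obtain ⟨hz1, hz2⟩ := Finset.mem_filter.1 hz
        obtain ⟨rfl, rfl⟩ := Prod.mk.inj hz2
        obtain ⟨-, e1, e2, e3⟩ := hrel z hz1
        exact ⟨e1, e2, by linear_combination e3⟩
      obtain ⟨hk0, hρ, eu⟩ := key u hu
      obtain ⟨-, -, ev⟩ := key v hv
      obtain ⟨-, -, ew⟩ := key w hw
      set A2 := k' * α * a * (1 - ρ) with hA2
      set A1 := k' * α * d + β * a - ρ * α * d - ρ * β * k' * a with hA1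
      have f1 : A2 * (u + v) + A1 = 0 :=
        mul_left_cancel₀ (sub_ne_zero.2 huv) (by linear_combination eu - ev)
      have f2 : A2 * (u + w) + A1 = 0 :=
        mul_left_cancel₀ (sub_ne_zero.2 huw) (by linear_combination eu - ew)
      have f3 : A2 * (v - w) = 0 := by linear_combination f1 - f2
      rcases mul_eq_zero.1 f3 with h0 | h0
      · exact mul_ne_zero (mul_ne_zero (mul_ne_zero hk0 hα) ha) (sub_ne_zero.2 (Ne.symm hρ)) h0
      · exact hvw (sub_eq_zero.1 h0)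
    have h7 : good.card ≤ 2 * (R ×ˢ R).card := Finset.card_le_mul_card_image_of_maps_to hmaps _ hfib
    rw [Finset.card_product] at h7
    omega

end Cfsg.Agent.Transfer.U3Min
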