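import Cfsg.Agent.Lib.Transfer.PSUThreeIndex.Prime
import Cfsg.Agent.Lib.Transfer.PSUThreeIndex.Line
import Mathlib.RingTheory.IntegralDomain

/-!
The parameters of a large subgroup: torus order, unipotent order, and the tests against a prime of the
index of its line stabilisers.
-/

set_option autoImplicit false
set_option linter.unusedSectionVars false
set_option maxHeartbeats 1000000

namespace Cfsg.Agent.Transfer.U3Min

open Matrix Cfsg Cfsg.Agent.Classical Cfsg.Agent.Classical.PSUAut Cfsg.Agent.Fus.UnitN Cfsg.Agent.Lie.SUGen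
  Cfsg.Agent.Lie.SU3Pres

/-- A finite group of units is killed only by multiples of its order. -/
theorem card_dvd_of_pow {K : Type*} [Field K] [Finite K] {T : Subgroup Kˣ} {m : ℕ}
    (hm : ∀ l ∈ T, (l : K) ^ m = 1) : Nat.card T ∣ m := by
  obtain ⟨g, hg⟩ := IsCyclic.exists_generator (α := T)
  rw [← orderOf_eq_card_of_forall_mem_zpowers hg]
  exact orderOf_dvd_of_pow_eq_one (Subtype.ext (Units.ext (by simpa using hm g.1 g.2)))

theorem exists_gen_units {K : Type*} [Field K] [Finite K] (T : Subgroup Kˣ) :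
    ∃ l ∈ T, orderOf l = Nat.card T ∧ ∀ x ∈ T, ∃ m : ℕ, l ^ m = x := by
  obtain ⟨g, hg⟩ := IsCyclic.exists_generator (α := T)
  refine ⟨g.1, g.2, by rw [Subgroup.orderOf_coe, orderOf_eq_card_of_forall_mem_zpowers hg], fun x hx => ?_⟩
  obtain ⟨m, hm⟩ := mem_powers_iff_mem_zpowers.2 (hg ⟨x, hx⟩)
  exact ⟨m, congrArg Subtype.val hm⟩

variable {F : Type*} [Field F] [Fintype F] {q : ℕ} (hF : Fintype.card F = q ^ 2)

local notation "cj" => qFrob hF
local notation "h" => hermForm 3 F q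

variable {e n f : Fin 3 → F} (B : Frame3 q e n f)

include hF B

theorem pow_card_sub_one {l : F} (hl : l ≠ 0) : l ^ (q ^ 2 - 1) = 1 := by
  rw [← hF]; exact FiniteField.pow_card_sub_one_eq_one l hl

theorem norm_eq_pow (l : F) : l * cj l = l ^ (q + 1) := by rw [qFrob_apply, pow_succ, mul_comm]

theorem th_eq_pow {l : F} (hl : l ≠ 0) : th hF l = l ^ (2 * q - 1) := by
  have := two_le_q hF
  rw [th, qFrob_apply, div_eq_iff hl, ← pow_succ, ← pow_add]
  congr 1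
  omega

theorem two_ne (hodd : Odd q) : (2 : F) ≠ 0 := by
  obtain ⟨p, hp⟩ := CharP.exists F
  haveI : Fact p.Prime := ⟨CharP.char_is_prime F p⟩
  obtain ⟨k, hk⟩ := Cfsg.Agent.Classical.UnitMult.q_eq_pow (p := p) hF
  have hpo : p ≠ 2 := by
    rintro rfl
    rcases k with _ | k
    · have := two_le_q hF; rw [hk] at this; simp at this
    · exact (Nat.not_even_iff_odd.2 hodd) (hk ▸ (Nat.even_pow.2 ⟨even_two, Nat.succ_ne_zero k⟩))
  haveI : NeZero (2 : F) := ⟨fun h0 => hpo ((Nat.prime_dvd_prime_iff_eq (Fact.out : p.Prime) Nat.prime_two).1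
    ((CharP.cast_eq_zero_iff F p 2).1 (by exact_mod_cast h0)))⟩
  exact two_ne_zero

theorem exists_pk (p : ℕ) [Fact p.Prime] [CharP F p] : ∃ k, k ≠ 0 ∧ q = p ^ k := by
  obtain ⟨k, hk⟩ := Cfsg.Agent.Classical.UnitMult.q_eq_pow (p := p) hF
  exact ⟨k, fun h0 => by have := two_le_q hF; rw [hk, h0, pow_zero] at this; omega, hk⟩

/-- The data of a big subgroup at every line. -/
theorem stab_card {H : Subgroup (SU 3 F q)} (hH : (q ^ 3 + 1) * (q ^ 2 - 1) ≤ Nat.card H) (g : SU 3 F q) :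
    Nat.card (conjH H g ⊓ Bor B : Subgroup (SU 3 F q)) =
      Nat.card (H ⊓ Uni hF B : Subgroup (SU 3 F q)) * Nat.card (tSet B H) := by
  obtain ⟨h1, -, h3⟩ := same_data hF B hH g
  rw [card_inf_Bor hF B, h1, h3]

theorem aSet_eq_bot_iff {H : Subgroup (SU 3 F q)} (hH : (q ^ 3 + 1) * (q ^ 2 - 1) ≤ Nat.card H)
    (g : SU 3 F q) : aSet hF B (conjH H g) = ⊥ ↔ aSet hF B H = ⊥ := by
  rw [← AddSubgroup.card_eq_one, ← AddSubgroup.card_eq_one, (same_data hF B hH g).2.1]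

/-- An involution of a big subgroup fixes a line. -/
theorem even_stab {H : Subgroup (SU 3 F q)} (hodd : Odd q)
    (hH : (q ^ 3 + 1) * (q ^ 2 - 1) ≤ Nat.card H) :
    2 ∣ Nat.card (H ⊓ Uni hF B : Subgroup (SU 3 F q)) * Nat.card (tSet B H) := by
  classical
  have h2 := two_ne hF B hodd
  have hev : 2 ∣ Nat.card H := by
    rw [card_eq_of_big hF B hH]
    exact dvd_mul_of_dvd_left (even_iff_two_dvd.1 ((hodd.pow).add_one)) _
  haveI : Fact (Nat.Prime 2) := ⟨Nat.prime_two⟩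
  obtain ⟨x, hx⟩ := exists_prime_orderOf_dvd_card' 2 hev
  have hx' : orderOf (x : SU 3 F q) = 2 := by rw [Subgroup.orderOf_coe, hx]
  have hx1 : (x : SU 3 F q) ≠ 1 := fun h0 => by rw [h0, orderOf_one] at hx'; omega
  have hxx : (x : SU 3 F q) * x = 1 := by rw [← pow_two, ← hx', pow_orderOf_eq_one]
  obtain ⟨v, hv⟩ := Cfsg.Agent.Lie.SUThreeInvolutions.exists_unit hF h2 hx1 hxx
  obtain ⟨g₁, hg₁⟩ := Cfsg.Agent.Lie.SUThreeInvolutions.exists_move hF v.2
  obtain ⟨g₂, hg₂⟩ := Cfsg.Agent.Lie.SUThreeInvolutions.exists_move hF B.nn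
  set g := g₁ * g₂⁻¹ with hgd
  have hgn : suVal g *ᵥ n = v.1 := by
    rw [hgd, mulVec_mul]
    nth_rw 1 [← hg₂]
    rw [Matrix.mulVec_mulVec _ (suVal g₂⁻¹), suVal_inv_mul, Matrix.one_mulVec, hg₁]
  have hxe : suVal (x : SU 3 F q) *ᵥ (suVal g *ᵥ e) = -(suVal g *ᵥ e) := by
    have h0 : h (suVal g *ᵥ e) v.1 = 0 := by rw [← hgn, su_form, B.en hF]
    rw [hv, Cfsg.Agent.Lie.SUThreeInvolutions.suVal_reflSU, Cfsg.Agent.Lie.SUThreeInvolutions.refl_mulVec,
      h0, mul_zero, zero_smul, zero_sub]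
  have hmem : g⁻¹ * (x : SU 3 F q) * g ∈ conjH H g ⊓ Bor B :=
    ⟨mem_conjH.2 (by simp [mul_assoc]), -1, by
      rw [mulVec_mul, mulVec_mul, hxe, Matrix.mulVec_neg, Matrix.mulVec_mulVec, suVal_inv_mul,
        Matrix.one_mulVec, neg_one_smul]⟩
  have h3 := Subgroup.orderOf_dvd_natCard _ hmem
  rwa [show g⁻¹ * (x : SU 3 F q) * g = MulAut.conj g⁻¹ (x : SU 3 F q) by simp, MulEquiv.orderOf_eq, hx',
    stab_card hF B hH g] at h3

/-- The linear parameters of a subgroup without transvections lie on a line. -/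
theorem wSet_line {H : Subgroup (SU 3 F q)} (hA : aSet hF B H = ⊥) {α β : F}
    (hα : α ∈ wSet hF B H) (hβ : β ∈ wSet hF B H) : α * cj β = cj α * β := by
  have h1 := comm_mem_aSet hF B hα hβ
  rw [hA, AddSubgroup.mem_bot, sub_eq_zero] at h1
  exact h1

theorem card_wSet_le {H : Subgroup (SU 3 F q)} (hA : aSet hF B H = ⊥) :
    Nat.card (wSet hF B H) ≤ q := by
  by_cases h0 : wSet hF B H = ⊥
  · rw [h0, AddSubgroup.card_bot]; have := two_le_q hF; omega
  obtain ⟨α, hα, hα0⟩ := ((wSet hF B H).bot_or_exists_ne_zero).resolve_left h0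
  refine le_trans ?_ (Cfsg.Agent.Classical.UnitMult.natCard_fixK hF).le
  refine Nat.card_le_card_of_injective (fun β => ⟨(β : F) / α, ?_⟩) fun β γ hβγ =>
    Subtype.ext ((div_left_inj' hα0).1 (congrArg Subtype.val hβγ))
  show cj ((β : F) / α) = (β : F) / α
  rw [map_div₀, div_eq_div_iff ((map_ne_zero (qFrob hF)).2 hα0) hα0]
  linear_combination wSet_line hF B hA hα β.2

theorem th_real_of_line {H : Subgroup (SU 3 F q)} (hA : aSet hF B H = ⊥) (h0 : wSet hF B H ≠ ⊥)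
    {l : Fˣ} (hl : l ∈ tSet B H) : (l : F) ^ (3 * (q - 1)) = 1 := by
  obtain ⟨α, hα, hα0⟩ := ((wSet hF B H).bot_or_exists_ne_zero).resolve_left h0
  have h1 := wSet_line hF B hA hα (wSet_stable hF B hl hα)
  rw [map_mul] at h1
  have h2 : cj (th hF (l : F)) = th hF (l : F) :=
    mul_left_cancel₀ (mul_ne_zero hα0 ((map_ne_zero (qFrob hF)).2 hα0)) (by linear_combination h1)
  have hth0 : th hF (l : F) ≠ 0 := by
    rw [th_eq_pow hF B l.ne_zero]; exact pow_ne_zero _ l.ne_zero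
  have hq := two_le_q hF
  rw [qFrob_apply] at h2
  have h3 : th hF (l : F) ^ (q - 1) = 1 := by
    refine mul_left_cancel₀ hth0 ?_
    rw [mul_one, ← pow_succ', show q - 1 + 1 = q by omega]
    exact h2
  rw [th_eq_pow hF B l.ne_zero, ← pow_mul] at h3
  have h4 := pow_card_sub_one hF B l.ne_zero
  have key : (2 * q - 1) * (q - 1) + 3 * (q - 1) = (q ^ 2 - 1) * 2 := by
    have h5 : 1 ≤ q ^ 2 := Nat.one_le_pow _ _ (by omega)
    zify [show 1 ≤ 2 * q by omega, show 1 ≤ q by omega, h5]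
    ring
  have h6 : (l : F) ^ ((2 * q - 1) * (q - 1) + 3 * (q - 1)) = 1 := by rw [key, pow_mul, h4, one_pow]
  rwa [pow_add, h3, one_mul] at h6

/-- A prime of the index of the line stabilisers, against the involutions and the characteristic. -/
theorem exists_k {H : Subgroup (SU 3 F q)} (hH : (q ^ 3 + 1) * (q ^ 2 - 1) ≤ Nat.card H) {r N : ℕ}
    [Fact r.Prime] (hN : Nat.card H = N) (hr : r ∣ N) (hr2 : ¬ r ^ 2 ∣ N)
    (hS : ¬ r ∣ Nat.card (H ⊓ Uni hF B : Subgroup (SU 3 F q)) * Nat.card (tSet B H))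
    (hq1 : ¬ r ∣ q + 1) :
    ∃ k : ℕ, k = Nat.card (Sylow r H) ∧ k * r ∣ N ∧ k % r = 1 ∧ (∀ a, 2 ^ a ∣ N → 2 ^ a ∣ k) ∧
      (∀ (p : ℕ) [Fact p.Prime] [CharP F p], ¬ p ∣ r - 1 → ∀ a, p ^ a ∣ N → p ^ a ∣ k) := by
  obtain ⟨k, hk0, hk1, hk2, hk3⟩ := exists_sylow_number (G := H) r (hN ▸ hr) (hN ▸ hr2)
  have hstab : ∀ g, ¬ r ∣ Nat.card (conjH H g ⊓ Bor B : Subgroup (SU 3 F q)) := fun g => by
    rwa [stab_card hF B hH g]
  refine ⟨k, hk0, hN ▸ hk1, hk2, fun a ha => hk3 2 a Nat.prime_two (fun R hR z hz => ?_) (hN ▸ ha),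
    fun p _ _ hpr a ha => hk3 p a Fact.out (fun R hR u hu => not_normalize_p hF B hpr hstab hR hu) (hN ▸ ha)⟩
  refine not_normalize hF B hstab hq1 hR (rankOne_involution hF B ?_ ?_)
  · intro h0
    rw [← Subgroup.orderOf_coe, h0, orderOf_one] at hz
    omega
  · rw [← Subgroup.coe_mul, ← pow_two, ← hz, pow_orderOf_eq_one, Subgroup.coe_one]

end Cfsg.Agent.Transfer.U3Min
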