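import Cfsg.Agent.Lib.Transfer.PSUThreeIndex.Borel
import Mathlib.GroupTheory.PGroup

/-!
A subgroup of `SU₃(q)` of index at most `q³` is transitive on the isotropic lines.
-/

set_option autoImplicit false
set_option linter.unusedSectionVars false
set_option maxHeartbeats 1000000

namespace Cfsg.Agent.Transfer.U3Min

open Matrix Cfsg Cfsg.Agent.Classical Cfsg.Agent.Classical.PSUAut Cfsg.Agent.Fus.UnitN Cfsg.Agent.Lie.SUGen
  Cfsg.Agent.Lie.SU3Pres

variable {F : Type*} [Field F] [Fintype F] {q : ℕ} (hF : Fintype.card F = q ^ 2)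

local notation "cj" => qFrob hF
local notation "h" => hermForm 3 F q

variable {e n f : Fin 3 → F} (B : Frame3 q e n f)

/-- The conjugate subgroup seen from another line. -/
def conjH (H : Subgroup (SU 3 F q)) (g : SU 3 F q) : Subgroup (SU 3 F q) :=
  H.comap (MulAut.conj g).toMonoidHom

theorem mem_conjH {H : Subgroup (SU 3 F q)} {g x : SU 3 F q} : x ∈ conjH H g ↔ g * x * g⁻¹ ∈ H := Iff.rfl

theorem conjH_one (H : Subgroup (SU 3 F q)) : conjH H 1 = H := by
  ext x; simp [mem_conjH]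

theorem conjH_mul (H : Subgroup (SU 3 F q)) (g k : SU 3 F q) : conjH (conjH H g) k = conjH H (g * k) := by
  ext x
  simp [mem_conjH, mul_assoc]

theorem conjH_mem (H : Subgroup (SU 3 F q)) {k : SU 3 F q} (hk : k ∈ H) : conjH H k = H := by
  ext x
  rw [mem_conjH, Subgroup.mul_mem_cancel_right _ (inv_mem hk), Subgroup.mul_mem_cancel_left _ hk]

theorem card_conjH (H : Subgroup (SU 3 F q)) (g : SU 3 F q) : Nat.card (conjH H g) = Nat.card H :=
  Nat.card_congr
    { toFun := fun x => ⟨g * x * g⁻¹, x.2⟩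
      invFun := fun y => ⟨g⁻¹ * y * g, mem_conjH.2 (by simp [mul_assoc])⟩
      left_inv := fun x => Subtype.ext (by simp [mul_assoc])
      right_inv := fun y => Subtype.ext (by simp [mul_assoc]) }

include hF B

/-- The stabiliser of a line in a subgroup. -/
theorem card_stab (H : Subgroup (SU 3 F q)) (g : SU 3 F q) :
    Nat.card (MulAction.stabilizer H (QuotientGroup.mk g : SU 3 F q ⧸ Bor B)) =
      Nat.card (conjH H g ⊓ Bor B : Subgroup (SU 3 F q)) := by
  have key : ∀ x : H, x ∈ MulAction.stabilizer H (QuotientGroup.mk g : SU 3 F q ⧸ Bor B) ↔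
      g⁻¹ * (x : SU 3 F q) * g ∈ Bor B := fun x => by
    rw [MulAction.mem_stabilizer_iff, show x • (QuotientGroup.mk g : SU 3 F q ⧸ Bor B) =
      QuotientGroup.mk ((x : SU 3 F q) * g) from rfl, eq_comm, QuotientGroup.eq, mul_assoc]
  exact Nat.card_congr
    { toFun := fun x => ⟨g⁻¹ * (x.1 : SU 3 F q) * g, mem_conjH.2 (by simp [mul_assoc]), (key x.1).1 x.2⟩
      invFun := fun y => ⟨⟨g * y * g⁻¹, y.2.1⟩, (key _).2 (by simpa [mul_assoc] using y.2.2)⟩
      left_inv := fun x => Subtype.ext (Subtype.ext (by simp [mul_assoc]))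
      right_inv := fun y => Subtype.ext (by simp [mul_assoc]) }

theorem card_points : Nat.card (SU 3 F q ⧸ Bor B) = q ^ 3 + 1 := index_Bor hF B

theorem orbit_le (H : Subgroup (SU 3 F q)) (x : SU 3 F q ⧸ Bor B) :
    Nat.card (MulAction.orbit H x) ≤ q ^ 3 + 1 :=
  (Nat.card_le_card_of_injective _ Subtype.val_injective).trans (card_points hF B).le

theorem orbit_mul_stab (H : Subgroup (SU 3 F q)) (g : SU 3 F q) :
    Nat.card (MulAction.orbit H (QuotientGroup.mk g : SU 3 F q ⧸ Bor B)) *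
      Nat.card (conjH H g ⊓ Bor B : Subgroup (SU 3 F q)) = Nat.card H := by
  rw [← card_stab hF B H g, ← Nat.card_prod]
  exact Nat.card_congr (MulAction.orbitProdStabilizerEquivGroup H _)

theorem card_tSet_le (K : Subgroup (SU 3 F q)) : Nat.card (tSet B K) ≤ q ^ 2 - 1 := by
  rw [show q ^ 2 - 1 = Nat.card Fˣ by rw [Nat.card_units, Nat.card_eq_fintype_card, hF]]
  exact Nat.card_le_card_of_injective _ Subtype.val_injective

theorem card_tSet_dvd (K : Subgroup (SU 3 F q)) : Nat.card (tSet B K) ∣ q ^ 2 - 1 := by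
  rw [show q ^ 2 - 1 = Nat.card Fˣ by rw [Nat.card_units, Nat.card_eq_fintype_card, hF]]
  exact Subgroup.card_subgroup_dvd_card _

theorem card_Uni : Nat.card (Uni hF B) = q ^ 3 := by
  have h1 := card_inf_Bor hF B ⊤
  have h2 : Nat.card (tSet B ⊤) = q ^ 2 - 1 := by
    rw [show tSet B (⊤ : Subgroup (SU 3 F q)) = ⊤ from eq_top_iff.2 fun l _ =>
      (mem_tSet hF B).2 ⟨Tm hF B (l : F), Subgroup.mem_top _, T_e hF B l.ne_zero⟩,
      Subgroup.card_top, Nat.card_units, Nat.card_eq_fintype_card, hF]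
  rw [top_inf_eq, top_inf_eq, h2, card_Bor hF B] at h1
  exact (Nat.eq_of_mul_eq_mul_right
    (Nat.sub_pos_of_lt (Nat.one_lt_pow two_ne_zero (two_le_q hF))) h1).symm

theorem isPGroup_Uni {p : ℕ} [Fact p.Prime] [CharP F p] : IsPGroup p (Uni hF B) := by
  obtain ⟨k, hk⟩ := Cfsg.Agent.Classical.UnitMult.q_eq_pow (p := p) hF
  exact IsPGroup.of_card (n := k * 3) (by rw [card_Uni hF B, hk, pow_mul])

variable {p : ℕ} [Fact p.Prime] [CharP F p]

theorem dvd_card_unip {K : Subgroup (SU 3 F q)} (hK : K ⊓ Uni hF B ≠ ⊥) :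
    p ∣ Nat.card (K ⊓ Uni hF B : Subgroup (SU 3 F q)) := by
  obtain ⟨m, hm⟩ := IsPGroup.iff_card.1 ((isPGroup_Uni hF B (p := p)).to_le (inf_le_right : K ⊓ Uni hF B ≤ _))
  rw [hm]
  refine dvd_pow_self p fun h0 => hK (Subgroup.eq_bot_of_card_eq _ ?_)
  rw [hm, h0, pow_zero]

/-- The size of an orbit modulo the characteristic, seen from a line with unipotent stabiliser. -/
theorem orbit_modEq (H : Subgroup (SU 3 F q)) {g : SU 3 F q} (hg : conjH H g ⊓ Uni hF B ≠ ⊥)
    (x : SU 3 F q ⧸ Bor B) :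
    (p ∣ Nat.card (MulAction.orbit H x) ↔
      (QuotientGroup.mk g : SU 3 F q ⧸ Bor B) ∉ MulAction.orbit H x) := by
  classical
  set c := (MulAut.conj g).toMonoidHom with hc
  let S : Subgroup H := ((conjH H g ⊓ Uni hF B).map c).subgroupOf H
  have hS : IsPGroup p S :=
    IsPGroup.comap_subtype (((isPGroup_Uni hF B (p := p)).to_le inf_le_right).map c)
  obtain ⟨u, hu, hu1⟩ := (Subgroup.bot_or_exists_ne_one _).resolve_left hg
  have hfix : ∀ y : SU 3 F q ⧸ Bor B, y ∈ MulAction.fixedPoints S (SU 3 F q ⧸ Bor B) ↔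
      y = QuotientGroup.mk g := by
    intro y
    constructor
    · intro hy
      obtain ⟨k, rfl⟩ := QuotientGroup.mk_surjective y
      let s : S := ⟨⟨g * u * g⁻¹, hu.1⟩, u, hu, rfl⟩
      have h1 := hy s
      rw [show s • (QuotientGroup.mk k : SU 3 F q ⧸ Bor B) = QuotientGroup.mk (g * u * g⁻¹ * k) from rfl,
        eq_comm, QuotientGroup.eq] at h1
      refine (QuotientGroup.eq.2 ?_).symm
      refine fixed_Uni hF B hu.2 hu1 ?_
      simpa [mul_assoc] using h1
    · rintro rfl ⟨s, w, hw, hs⟩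
      show QuotientGroup.mk ((s : SU 3 F q) * g) = _
      rw [← show g * w * g⁻¹ = (s : SU 3 F q) from hs, inv_mul_cancel_right, eq_comm, QuotientGroup.eq,
        inv_mul_cancel_left]
      exact Uni_le_Bor hF B hw.2
  let O := MulAction.orbit H x
  letI : MulAction S O :=
    { smul := fun s y => ⟨s.1 • y.1, MulAction.mem_orbit_of_mem_orbit s.1 y.2⟩
      one_smul := fun y => Subtype.ext (one_smul H y.1)
      mul_smul := fun s t y => Subtype.ext (mul_smul s.1 t.1 y.1) }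
  have hmod := hS.card_modEq_card_fixedPoints (p := p) O
  have hfixO : ∀ y : O, y ∈ MulAction.fixedPoints S O ↔ (y : SU 3 F q ⧸ Bor B) = QuotientGroup.mk g := fun y => by
    rw [← hfix]
    exact ⟨fun hy s => congrArg Subtype.val (hy s), fun hy s => Subtype.ext (hy s)⟩
  by_cases hm : (QuotientGroup.mk g : SU 3 F q ⧸ Bor B) ∈ O
  · refine iff_of_false (fun hd => ?_) (not_not_intro hm)
    have h1 : Nat.card (MulAction.fixedPoints S O) = 1 := by
      rw [Nat.card_eq_one_iff_unique]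
      exact ⟨⟨fun a b => Subtype.ext (Subtype.ext (((hfixO a.1).1 a.2).trans ((hfixO b.1).1 b.2).symm))⟩,
        ⟨⟨⟨_, hm⟩, (hfixO _).2 rfl⟩⟩⟩
    rw [h1] at hmod
    exact (Fact.out : p.Prime).not_dvd_one (hmod.dvd_iff dvd_rfl |>.1 hd)
  · refine iff_of_true ?_ hm
    have h1 : Nat.card (MulAction.fixedPoints S O) = 0 := by
      rw [Nat.card_eq_zero]
      exact Or.inl ⟨fun a => hm ((hfixO a.1).1 a.2 ▸ a.1.2)⟩
    rw [h1] at hmod
    exact (Nat.modEq_zero_iff_dvd).1 hmod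

omit p in
/-- The hypothesis on the subgroup. -/
theorem conjH_big {H : Subgroup (SU 3 F q)} (hH : (q ^ 3 + 1) * (q ^ 2 - 1) ≤ Nat.card H) (g : SU 3 F q) :
    (q ^ 3 + 1) * (q ^ 2 - 1) ≤ Nat.card (conjH H g) := by rwa [card_conjH]

/-- A large subgroup is transitive on the isotropic lines. -/
theorem orbit_univ {H : Subgroup (SU 3 F q)} (hH : (q ^ 3 + 1) * (q ^ 2 - 1) ≤ Nat.card H)
    (x : SU 3 F q ⧸ Bor B) : MulAction.orbit H x = Set.univ := by
  classical
  obtain ⟨p, hp⟩ := CharP.exists F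
  haveI : Fact p.Prime := ⟨CharP.char_is_prime F p⟩
  by_cases hfree : ∃ g, conjH H g ⊓ Uni hF B = ⊥
  · obtain ⟨g, hg⟩ := hfree
    have h1 := orbit_mul_stab hF B H g
    rw [card_inf_Bor hF B, hg, Subgroup.card_bot, one_mul] at h1
    have h2 : Nat.card (MulAction.orbit H (QuotientGroup.mk g : SU 3 F q ⧸ Bor B)) =
        Nat.card (SU 3 F q ⧸ Bor B) := by
      rw [card_points hF B]
      refine le_antisymm (orbit_le hF B H _) ?_
      refine Nat.le_of_mul_le_mul_right (le_trans hH ?_)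
        (Nat.sub_pos_of_lt (Nat.one_lt_pow two_ne_zero (two_le_q hF)))
      rw [← h1]
      exact Nat.mul_le_mul_left _ (card_tSet_le hF B _)
    have hall : MulAction.orbit H (QuotientGroup.mk g : SU 3 F q ⧸ Bor B) = Set.univ :=
      Set.eq_univ_of_univ_subset fun y _ => by
        obtain ⟨⟨z, hz⟩, rfl⟩ := ((Nat.bijective_iff_injective_and_card
          (Subtype.val : MulAction.orbit H (QuotientGroup.mk g : SU 3 F q ⧸ Bor B) → _)).2
            ⟨Subtype.val_injective, h2⟩).2 y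
        exact hz
    have hx : x ∈ MulAction.orbit H (QuotientGroup.mk g : SU 3 F q ⧸ Bor B) := hall ▸ Set.mem_univ _
    rw [MulAction.orbit_eq_iff.2 hx, hall]
  · push Not at hfree
    obtain ⟨g₀, rfl⟩ := QuotientGroup.mk_surjective x
    refine Set.eq_univ_of_univ_subset fun y _ => ?_
    obtain ⟨g, rfl⟩ := QuotientGroup.mk_surjective y
    by_contra hy
    have h1 : p ∣ Nat.card (MulAction.orbit H (QuotientGroup.mk g₀ : SU 3 F q ⧸ Bor B)) :=
      (orbit_modEq hF B H (hfree g) _).2 hy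
    exact (orbit_modEq hF B H (hfree g₀) _).1 h1 (MulAction.mem_orbit_self _)

omit p in
theorem trans_form {H : Subgroup (SU 3 F q)} (hH : (q ^ 3 + 1) * (q ^ 2 - 1) ≤ Nat.card H)
    (g : SU 3 F q) : ∃ k ∈ H, ∃ b ∈ Bor B, g = k * b := by
  obtain ⟨p, hp⟩ := CharP.exists F
  haveI : Fact p.Prime := ⟨CharP.char_is_prime F p⟩
  have h1 : (QuotientGroup.mk g : SU 3 F q ⧸ Bor B) ∈
      MulAction.orbit H (QuotientGroup.mk 1 : SU 3 F q ⧸ Bor B) := by
    rw [orbit_univ hF B hH]; exact Set.mem_univ _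
  obtain ⟨k, hk⟩ := h1
  refine ⟨k, k.2, (k : SU 3 F q)⁻¹ * g, ?_, (mul_inv_cancel_left _ _).symm⟩
  have h2 : (QuotientGroup.mk ((k : SU 3 F q) * 1) : SU 3 F q ⧸ Bor B) = QuotientGroup.mk g := hk
  rw [mul_one, QuotientGroup.eq] at h2
  exact h2

omit p in
theorem card_eq_of_big {H : Subgroup (SU 3 F q)} (hH : (q ^ 3 + 1) * (q ^ 2 - 1) ≤ Nat.card H) :
    Nat.card H = (q ^ 3 + 1) *
      (Nat.card (H ⊓ Uni hF B : Subgroup (SU 3 F q)) * Nat.card (tSet B H)) := by
  obtain ⟨p, hp⟩ := CharP.exists F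
  haveI : Fact p.Prime := ⟨CharP.char_is_prime F p⟩
  have h1 := orbit_mul_stab hF B H 1
  rw [orbit_univ hF B hH, Nat.card_univ, card_points hF B, conjH_one, card_inf_Bor hF B] at h1
  exact h1.symm

omit p in
theorem le_stab_of_big {H : Subgroup (SU 3 F q)} (hH : (q ^ 3 + 1) * (q ^ 2 - 1) ≤ Nat.card H) :
    q ^ 2 - 1 ≤ Nat.card (H ⊓ Uni hF B : Subgroup (SU 3 F q)) * Nat.card (tSet B H) :=
  Nat.le_of_mul_le_mul_left (card_eq_of_big hF B hH ▸ hH) (Nat.succ_pos _)

end Cfsg.Agent.Transfer.U3Min
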