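import Cfsg.Agent.Lib.Classical.UnitMultThreeTwo
import Cfsg.Agent.Lib.Lie.MinIndexUnitGeom

/-!
The stabiliser of an isotropic line in `SU₃(q)`: normal form, parameters of a subgroup inside it, and
the cosets (the isotropic lines).
-/

set_option autoImplicit false
set_option linter.unusedSectionVars false
set_option maxHeartbeats 1000000

namespace Cfsg.Agent.Transfer.U3Min

open Matrix Cfsg Cfsg.Agent.Classical Cfsg.Agent.Classical.PSUAut Cfsg.Agent.Fus.UnitN Cfsg.Agent.Lie.SUGen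
  Cfsg.Agent.Lie.SU3Pres

variable {F : Type*} [Field F] [Fintype F] {q : ℕ} (hF : Fintype.card F = q ^ 2)

local notation "cj" => qFrob hF
local notation "h" => hermForm 3 F q

variable {e n f : Fin 3 → F} (B : Frame3 q e n f)

/-- The stabiliser of the line of `e`. -/
def Bor (_B : Frame3 q e n f) : Subgroup (SU 3 F q) where
  carrier := {g | ∃ a : F, suVal g *ᵥ e = a • e}
  one_mem' := ⟨1, by rw [suVal_one', Matrix.one_mulVec, one_smul]⟩
  mul_mem' := by
    rintro s t ⟨a, ha⟩ ⟨b, hb⟩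
    exact ⟨b * a, by rw [mulVec_mul, hb, Matrix.mulVec_smul, ha, smul_smul]⟩
  inv_mem' := by
    rintro s ⟨a, ha⟩
    refine ⟨a⁻¹, ?_⟩
    have e0 : e ≠ 0 := _B.P.ne_zero
    have ha0 : a ≠ 0 := fun h0 => e0 (su_injective s (by rw [ha, h0, zero_smul]))
    have h1 : suVal s⁻¹ *ᵥ (a • e) = e := by
      rw [← ha, Matrix.mulVec_mulVec, suVal_inv_mul, Matrix.one_mulVec]
    rw [Matrix.mulVec_smul] at h1
    rw [eq_comm, inv_smul_eq_iff₀ ha0, h1]

theorem mem_Bor {g : SU 3 F q} : g ∈ Bor B ↔ ∃ a : F, suVal g *ᵥ e = a • e := Iff.rfl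

include hF B

omit B in
theorem h_e (B : Frame3 q e n f) (x y z : F) : h e (co e n f x y z) = cj z := by
  have := B.h_co hF 1 0 0 x y z
  rw [co_e] at this
  rw [this]; ring

theorem U_e {α b : F} (hb : OK hF α b) : suVal (Um hF B α b) *ᵥ e = e := by
  have h1 := U_act hF B hb 1 0 0
  simpa [co] using h1

theorem T_e {l : F} (hl : l ≠ 0) : suVal (Tm hF B l) *ᵥ e = l • e := by
  have h1 := T_act hF B hl 1 0 0
  simpa [co] using h1

/-- An element fixing `e` and `f` is trivial on `n`. -/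
theorem eq_one_of_fix {g : SU 3 F q} (he : suVal g *ᵥ e = e) (hf : suVal g *ᵥ f = f) : g = 1 := by
  obtain ⟨u, v, w, hn⟩ := exists_co hF B (suVal g *ᵥ n)
  have h1 : h (suVal g *ᵥ n) (suVal g *ᵥ e) = 0 := by rw [su_form, B.ne]
  have h2 : h (suVal g *ᵥ n) (suVal g *ᵥ f) = 0 := by rw [su_form, B.nf]
  rw [he, show e = co e n f 1 0 0 from (co_e).symm] at h1
  rw [hf, show f = co e n f 0 0 1 from (co_f).symm] at h2
  rw [hn, B.h_co hF] at h1 h2
  simp at h1 h2
  subst h1 h2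
  have hm : suVal g * Pm B = Pm B * Matrix.diagonal ![1, v, 1] := by
    refine Matrix.ext_iff_mulVec.2 fun a => ?_
    rw [← Matrix.mulVec_mulVec, ← Matrix.mulVec_mulVec, Pm_mulVec hF B, Pm_mulVec hF B]
    simp [co, Matrix.mulVec_add, Matrix.mulVec_smul, he, hf, hn, Matrix.mulVec_diagonal,
      smul_smul, mul_comm]
  have hv : v = 1 := by
    have h1 := congrArg Matrix.det hm
    rw [Matrix.det_mul, Matrix.det_mul, Matrix.det_diagonal, Fin.prod_univ_three,
      show (suVal g).det = 1 from (g : Matrix.SpecialLinearGroup (Fin 3) F).2, one_mul] at h1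
    have := (Pm_det hF B).ne_zero
    rw [show (![1, v, 1] : Fin 3 → F) 0 = 1 from rfl, show (![1, v, 1] : Fin 3 → F) 1 = v from rfl,
      show (![1, v, 1] : Fin 3 → F) 2 = 1 from rfl, one_mul, mul_one] at h1
    exact mul_left_cancel₀ this (by rw [mul_one]; exact h1.symm)
  exact ext_co hF B fun a b c => by
    rw [suVal_one', Matrix.one_mulVec]
    simp [co, Matrix.mulVec_add, Matrix.mulVec_smul, he, hf, hn, hv]

/-- The normal form. -/
theorem bor_form {g : SU 3 F q} {l : F} (hg : suVal g *ᵥ e = l • e) :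
    ∃ α b, l ≠ 0 ∧ OK hF α b ∧ g = Um hF B α b * Tm hF B l := by
  have hl : l ≠ 0 := fun h0 => B.P.ne_zero (su_injective g (by rw [hg, h0, zero_smul]))
  set g₁ := g * (Tm hF B l)⁻¹ with hg₁
  have hTi : suVal (Tm hF B l)⁻¹ *ᵥ e = l⁻¹ • e := by
    rw [eq_comm, inv_smul_eq_iff₀ hl, ← Matrix.mulVec_smul, ← T_e hF B hl, Matrix.mulVec_mulVec,
      suVal_inv_mul, Matrix.one_mulVec]
  have he' : suVal g₁ *ᵥ e = e := by
    rw [hg₁, mulVec_mul, hTi, Matrix.mulVec_smul, hg, smul_smul, inv_mul_cancel₀ hl, one_smul]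
  obtain ⟨b, α, d, hf'⟩ := exists_co hF B (suVal g₁ *ᵥ f)
  have hd : d = 1 := by
    have h1 : h (suVal g₁ *ᵥ e) (suVal g₁ *ᵥ f) = 1 := by rw [su_form, B.P.ef]
    rw [he', hf', h_e hF B] at h1
    rw [← cj_cj hF d, h1, map_one]
  subst hd
  have hOK : OK hF α b := by
    have h1 : h (suVal g₁ *ᵥ f) (suVal g₁ *ᵥ f) = 0 := by rw [su_form, B.P.ff]
    rw [hf', B.h_co hF, map_one, mul_one, one_mul] at h1
    simp only [OK]
    linear_combination h1
  refine ⟨α, b, hl, hOK, ?_⟩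
  have h3 : (Um hF B α b)⁻¹ * g₁ = 1 := eq_one_of_fix hF B
    (by rw [mulVec_mul, he', U_inv hF B hOK, U_e hF B (hOK.inv hF)])
    (by
      rw [mulVec_mul, hf', U_inv hF B hOK, U_act hF B (hOK.inv hF)]
      simp only [map_neg]
      rw [show b - -cj α * α + cj b * 1 = 0 by simp only [OK] at hOK; linear_combination hOK,
        show α + -α * 1 = 0 by ring]
      simp [co])
  rw [inv_mul_eq_one] at h3
  rw [h3, hg₁, inv_mul_cancel_right]

theorem UT_e {α b l : F} (hb : OK hF α b) (hl : l ≠ 0) :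
    suVal (Um hF B α b * Tm hF B l) *ᵥ e = l • e := by
  rw [mulVec_mul, T_e hF B hl, Matrix.mulVec_smul, U_e hF B hb]

theorem UT_inj {α b l α' b' l' : F} (hb : OK hF α b) (hl : l ≠ 0) (hb' : OK hF α' b') (hl' : l' ≠ 0)
    (he : Um hF B α b * Tm hF B l = Um hF B α' b' * Tm hF B l') : α = α' ∧ b = b' ∧ l = l' := by
  have h1 : l = l' := by
    have := UT_e hF B hb hl
    rw [he, UT_e hF B hb' hl'] at this
    exact (smul_left_injective F B.P.ne_zero this).symm
  subst h1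
  exact ⟨(U_inj hF B hb hb' (mul_right_cancel he)).1, (U_inj hF B hb hb' (mul_right_cancel he)).2, rfl⟩

/-- Conjugation of a central element by an element of the stabiliser. -/
theorem conj_center {α b l c : F} (hb : OK hF α b) (hl : l ≠ 0) (hc : c + cj c = 0) :
    Um hF B α b * Tm hF B l * Um hF B 0 c * (Um hF B α b * Tm hF B l)⁻¹ = Um hF B 0 (l * cj l * c) := by
  have h0 : OK hF 0 c := OK.skew hF hc
  have h1 : OK hF 0 (l * cj l * c) := by simpa using h0.scale hF hl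
  rw [show Um hF B α b * Tm hF B l * Um hF B 0 c * (Um hF B α b * Tm hF B l)⁻¹ =
      Um hF B α b * (Tm hF B l * Um hF B 0 c * (Tm hF B l)⁻¹) * (Um hF B α b)⁻¹ by group,
    T_conj hF B hl h0, mul_zero, mul_inv_eq_iff_eq_mul, U_mul hF B hb h1, U_mul hF B h1 hb, map_zero]
  congr 1 <;> ring

/-- The linear part of a conjugate. -/
theorem conj_linear {α b l α' b' : F} (hb : OK hF α b) (hl : l ≠ 0) (hb' : OK hF α' b') :
    ∃ b'', OK hF (th hF l * α') b'' ∧
      Um hF B α b * Tm hF B l * Um hF B α' b' * (Um hF B α b * Tm hF B l)⁻¹ = Um hF B (th hF l * α') b'' := by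
  have h1 := hb'.scale hF hl
  have h2 := (hb.mul hF h1).mul hF (hb.inv hF)
  rw [show α + th hF l * α' + -α = th hF l * α' by ring] at h2
  refine ⟨_, h2, ?_⟩
  rw [show Um hF B α b * Tm hF B l * Um hF B α' b' * (Um hF B α b * Tm hF B l)⁻¹ =
      Um hF B α b * (Tm hF B l * Um hF B α' b' * (Tm hF B l)⁻¹) * (Um hF B α b)⁻¹ by group,
    T_conj hF B hl hb', U_inv hF B hb, U_mul hF B hb h1, U_mul hF B (hb.mul hF h1) (hb.inv hF),
    show α + th hF l * α' + -α = th hF l * α' by ring]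

/-- The unipotent radical. -/
noncomputable def Uni : Subgroup (SU 3 F q) where
  carrier := {g | ∃ α b, OK hF α b ∧ g = Um hF B α b}
  one_mem' := ⟨0, 0, OK.zero hF, (U_zero hF B).symm⟩
  mul_mem' := by
    rintro s t ⟨α, b, h1, rfl⟩ ⟨α', b', h2, rfl⟩
    exact ⟨_, _, h1.mul hF h2, U_mul hF B h1 h2⟩
  inv_mem' := by
    rintro s ⟨α, b, h1, rfl⟩
    exact ⟨_, _, h1.inv hF, U_inv hF B h1⟩

theorem mem_Uni_iff {g : SU 3 F q} : g ∈ Uni hF B ↔ suVal g *ᵥ e = e := by
  constructor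
  · rintro ⟨α, b, h1, rfl⟩
    exact U_e hF B h1
  · intro hg
    obtain ⟨α, b, -, h1, rfl⟩ := bor_form hF B (l := 1) (by rw [hg, one_smul])
    exact ⟨α, b, h1, by rw [T_one hF B, mul_one]⟩

theorem Uni_le_Bor : Uni hF B ≤ Bor B := fun g hg =>
  ⟨1, by rw [(mem_Uni_iff hF B).1 hg, one_smul]⟩

/-- The character of the stabiliser on the line. -/
noncomputable def chi : Bor B →* F where
  toFun g := h (suVal (g : SU 3 F q) *ᵥ e) f
  map_one' := by simp [suVal_one', B.P.ef]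
  map_mul' g g' := by
    obtain ⟨a, ha⟩ := g.2
    obtain ⟨a', ha'⟩ := g'.2
    rw [Subgroup.coe_mul, mulVec_mul, ha', Matrix.mulVec_smul, ha, smul_smul, h_smul_left, h_smul_left,
      h_smul_left, B.P.ef]
    ring

theorem chi_eq {g : Bor B} {a : F} (ha : suVal (g : SU 3 F q) *ᵥ e = a • e) : chi B g = a := by
  show h (suVal (g : SU 3 F q) *ᵥ e) f = a
  rw [ha, h_smul_left, B.P.ef, mul_one]

theorem chi_spec (g : Bor B) : suVal (g : SU 3 F q) *ᵥ e = chi B g • e := by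
  obtain ⟨a, ha⟩ := g.2
  rw [chi_eq hF B ha, ha]

/-- The scalars on the line induced by a subgroup. -/
noncomputable def tSet (K : Subgroup (SU 3 F q)) : Subgroup Fˣ :=
  ((chi B).toHomUnits.comp (Subgroup.inclusion (inf_le_right : K ⊓ Bor B ≤ Bor B))).range

theorem mem_tSet {K : Subgroup (SU 3 F q)} {l : Fˣ} :
    l ∈ tSet B K ↔ ∃ g ∈ K, suVal g *ᵥ e = (l : F) • e := by
  constructor
  · rintro ⟨g, rfl⟩
    exact ⟨g.1, g.2.1, chi_spec hF B ⟨g.1, g.2.2⟩⟩
  · rintro ⟨g, hg, he⟩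
    exact ⟨⟨g, hg, ⟨_, he⟩⟩, Units.ext (chi_eq hF B (g := ⟨g, _, he⟩) he)⟩

theorem card_inf_Bor (K : Subgroup (SU 3 F q)) :
    Nat.card (K ⊓ Bor B : Subgroup (SU 3 F q)) =
      Nat.card (K ⊓ Uni hF B : Subgroup (SU 3 F q)) * Nat.card (tSet B K) := by
  set φ := (chi B).toHomUnits.comp (Subgroup.inclusion (inf_le_right : K ⊓ Bor B ≤ Bor B)) with hφ
  rw [← Subgroup.card_mul_index φ.ker, Subgroup.index_ker]
  congr 1
  refine Nat.card_congr
    { toFun := fun g => ⟨g.1.1, g.1.2.1, (mem_Uni_iff hF B).2 ?_⟩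
      invFun := fun g => ⟨⟨g.1, g.2.1, Uni_le_Bor hF B g.2.2⟩, ?_⟩
      left_inv := fun g => rfl
      right_inv := fun g => rfl }
  · have h1 : chi B ⟨g.1.1, g.1.2.2⟩ = 1 := congrArg Units.val (MonoidHom.mem_ker.1 g.2)
    have h2 := chi_spec hF B ⟨g.1.1, g.1.2.2⟩
    rwa [h1, one_smul] at h2
  · refine MonoidHom.mem_ker.2 (Units.ext (chi_eq hF B (g := ⟨g.1, Uni_le_Bor hF B g.2.2⟩) ?_))
    rw [(mem_Uni_iff hF B).1 g.2.2, Units.val_one, one_smul]

/-- The centre parameters of a subgroup. -/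
noncomputable def aSet (K : Subgroup (SU 3 F q)) : AddSubgroup F where
  carrier := {c | c + cj c = 0 ∧ Um hF B 0 c ∈ K}
  zero_mem' := ⟨by rw [map_zero, add_zero], by rw [U_zero hF B]; exact one_mem K⟩
  add_mem' := by
    rintro c d ⟨hc, hcK⟩ ⟨hd, hdK⟩
    refine ⟨by rw [map_add]; linear_combination hc + hd, ?_⟩
    have h1 := mul_mem hcK hdK
    rwa [U_mul hF B (OK.skew hF hc) (OK.skew hF hd), add_zero, map_zero, zero_mul, sub_zero] at h1
  neg_mem' := by
    rintro c ⟨hc, hcK⟩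
    refine ⟨by rw [map_neg]; linear_combination -hc, ?_⟩
    have h1 := inv_mem hcK
    rwa [U_inv hF B (OK.skew hF hc), neg_zero, eq_neg_of_add_eq_zero_right hc] at h1

theorem mem_aSet {K : Subgroup (SU 3 F q)} {c : F} :
    c ∈ aSet hF B K ↔ c + cj c = 0 ∧ Um hF B 0 c ∈ K := Iff.rfl

/-- The linear parameters of a subgroup. -/
noncomputable def wSet (K : Subgroup (SU 3 F q)) : AddSubgroup F where
  carrier := {α | ∃ b, OK hF α b ∧ Um hF B α b ∈ K}
  zero_mem' := ⟨0, OK.zero hF, by rw [U_zero hF B]; exact one_mem K⟩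
  add_mem' := by
    rintro α α' ⟨b, hb, hK⟩ ⟨b', hb', hK'⟩
    exact ⟨_, hb.mul hF hb', by rw [← U_mul hF B hb hb']; exact mul_mem hK hK'⟩
  neg_mem' := by
    rintro α ⟨b, hb, hK⟩
    exact ⟨_, hb.inv hF, by rw [← U_inv hF B hb]; exact inv_mem hK⟩

theorem mem_wSet {K : Subgroup (SU 3 F q)} {α : F} :
    α ∈ wSet hF B K ↔ ∃ b, OK hF α b ∧ Um hF B α b ∈ K := Iff.rfl

theorem card_inf_Uni (K : Subgroup (SU 3 F q)) :
    Nat.card (K ⊓ Uni hF B : Subgroup (SU 3 F q)) =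
      Nat.card (aSet hF B K) * Nat.card (wSet hF B K) := by
  choose β hβ using fun α : wSet hF B K => (mem_wSet hF B).1 α.2
  have hex : ∀ g : (K ⊓ Uni hF B : Subgroup (SU 3 F q)), ∃ α b, OK hF α b ∧ (g : SU 3 F q) = Um hF B α b :=
    fun g => g.2.2
  choose αo bo hob using hex
  have hmul : ∀ (c : aSet hF B K) (α : wSet hF B K),
      Um hF B 0 (c : F) * Um hF B (α : F) (β α) = Um hF B (α : F) ((c : F) + β α) := fun c α => by
    rw [U_mul hF B (OK.skew hF c.2.1) (hβ α).1, zero_add, map_zero, zero_mul, sub_zero]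
  have hok : ∀ (c : aSet hF B K) (α : wSet hF B K), OK hF (α : F) ((c : F) + β α) := fun c α => by
    simpa using (OK.skew hF c.2.1).mul hF (hβ α).1
  rw [← Nat.card_prod]
  refine (Nat.card_eq_of_bijective (fun z : aSet hF B K × wSet hF B K =>
    (⟨Um hF B 0 (z.1 : F) * Um hF B (z.2 : F) (β z.2),
      mul_mem z.1.2.2 (hβ z.2).2, z.2, _, hok z.1 z.2, hmul z.1 z.2⟩ :
        (K ⊓ Uni hF B : Subgroup (SU 3 F q)))) ⟨?_, ?_⟩).symm
  · rintro ⟨c, α⟩ ⟨c', α'⟩ he
    have h1 := congrArg Subtype.val he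
    simp only at h1
    rw [hmul, hmul] at h1
    obtain ⟨e1, e2⟩ := U_inj hF B (hok c α) (hok c' α') h1
    obtain rfl : α = α' := Subtype.ext e1
    exact Prod.ext (Subtype.ext (add_right_cancel e2)) rfl
  · intro g
    let α : wSet hF B K := ⟨αo g, bo g, (hob g).1, (hob g).2 ▸ g.2.1⟩
    have h1 : OK hF (αo g) (bo g) := (hob g).1
    have hc : bo g - β α + cj (bo g - β α) = 0 := by
      have h2 := (hβ α).1
      simp only [OK, α] at h1 h2
      rw [map_sub]
      linear_combination h1 - h2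
    have hcK : Um hF B 0 (bo g - β α) ∈ K := by
      have h3 : Um hF B 0 (bo g - β α) * Um hF B (αo g) (β α) = (g : SU 3 F q) := by
        rw [U_mul hF B (OK.skew hF hc) (hβ α).1, zero_add, map_zero, zero_mul, sub_zero, sub_add_cancel,
          ← (hob g).2]
      rw [← mul_inv_eq_iff_eq_mul.2 h3.symm]
      exact mul_mem g.2.1 (inv_mem (hβ α).2)
    refine ⟨(⟨_, hc, hcK⟩, α), Subtype.ext ?_⟩
    show Um hF B 0 (bo g - β α) * Um hF B (αo g) (β α) = _
    rw [U_mul hF B (OK.skew hF hc) (hβ α).1, zero_add, map_zero, zero_mul, sub_zero, sub_add_cancel,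
      ← (hob g).2]

/-- The commutator relation on the linear parameters. -/
theorem comm_mem_aSet {K : Subgroup (SU 3 F q)} {α β : F} (hα : α ∈ wSet hF B K) (hβ : β ∈ wSet hF B K) :
    α * cj β - cj α * β ∈ aSet hF B K := by
  obtain ⟨b, hb, hK⟩ := hα
  obtain ⟨b', hb', hK'⟩ := hβ
  refine ⟨by simp only [map_sub, map_mul, cj_cj hF]; ring, ?_⟩
  rw [← U_comm hF B hb hb']
  rw [commutatorElement_def]
  exact mul_mem (mul_mem (mul_mem hK hK') (inv_mem hK)) (inv_mem hK')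

theorem aSet_stable {K : Subgroup (SU 3 F q)} {l : Fˣ} (hl : l ∈ tSet B K) {c : F}
    (hc : c ∈ aSet hF B K) : (l : F) * cj (l : F) * c ∈ aSet hF B K := by
  obtain ⟨g, hg, he⟩ := (mem_tSet hF B).1 hl
  obtain ⟨α, b, hl0, hb, rfl⟩ := bor_form hF B he
  refine ⟨by rw [map_mul, map_mul, cj_cj hF]; linear_combination ((l : F) * cj (l : F)) * hc.1, ?_⟩
  rw [← conj_center hF B hb hl0 hc.1]
  exact mul_mem (mul_mem hg hc.2) (inv_mem hg)

theorem wSet_stable {K : Subgroup (SU 3 F q)} {l : Fˣ} (hl : l ∈ tSet B K) {α : F}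
    (hα : α ∈ wSet hF B K) : th hF (l : F) * α ∈ wSet hF B K := by
  obtain ⟨g, hg, he⟩ := (mem_tSet hF B).1 hl
  obtain ⟨α', b', hl0, hb', rfl⟩ := bor_form hF B he
  obtain ⟨b, hb, hK⟩ := hα
  obtain ⟨b'', hb'', hconj⟩ := conj_linear hF B hb' hl0 hb
  exact ⟨b'', hb'', hconj ▸ mul_mem (mul_mem hg hK) (inv_mem hg)⟩

theorem card_Bor : Nat.card (Bor B) = q ^ 3 * (q ^ 2 - 1) := by
  have h1 := card_inf_Bor hF B ⊤
  rw [top_inf_eq, card_inf_Uni hF B] at h1
  have ha : Nat.card (aSet hF B ⊤) = q := by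
    refine Eq.trans (Nat.card_congr (Equiv.subtypeEquivRight fun c => ?_)) (Cfsg.Agent.Lie.MinIndexUnit.card_skew hF)
    exact ⟨fun hc => hc.1, fun hc => ⟨hc, Subgroup.mem_top _⟩⟩
  have hw : Nat.card (wSet hF B ⊤) = q ^ 2 := by
    rw [← hF, ← Nat.card_eq_fintype_card]
    refine Nat.card_congr (Equiv.subtypeUnivEquiv fun α => ?_)
    obtain ⟨b, hb⟩ := exists_trace_eq hF (a := -(α * cj α)) (by rw [map_neg, map_mul, cj_cj hF, mul_comm])
    exact ⟨b, by simp only [OK]; linear_combination hb, Subgroup.mem_top _⟩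
  have ht : tSet B ⊤ = ⊤ := eq_top_iff.2 fun l _ =>
    (mem_tSet hF B).2 ⟨Tm hF B (l : F), Subgroup.mem_top _, T_e hF B l.ne_zero⟩
  rw [h1, ha, hw, ht, Subgroup.card_top, Nat.card_units, Nat.card_eq_fintype_card, hF]
  ring

theorem index_Bor : (Bor B).index = q ^ 3 + 1 := by
  have h1 := (Bor B).card_mul_index
  rw [card_Bor hF B, Cfsg.Agent.Classical.UnitMult.natCard_SU3 hF] at h1
  have hq := two_le_q hF
  have h2 : 0 < q ^ 3 * (q ^ 2 - 1) :=
    Nat.mul_pos (pow_pos (by omega) 3) (Nat.sub_pos_of_lt (Nat.one_lt_pow two_ne_zero hq))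
  exact Nat.eq_of_mul_eq_mul_left h2 (h1.trans (by ring))

/-- A unipotent element fixes only the coset of the stabiliser. -/
theorem fixed_Uni {u : SU 3 F q} (hu : u ∈ Uni hF B) (hu1 : u ≠ 1) {g : SU 3 F q}
    (hfix : g⁻¹ * u * g ∈ Bor B) : g ∈ Bor B := by
  obtain ⟨a, ha⟩ := hfix
  obtain ⟨α, b, hb, rfl⟩ := hu
  have h1 : suVal (Um hF B α b) *ᵥ (suVal g *ᵥ e) = a • (suVal g *ᵥ e) := by
    rw [← mulVec_mul, show Um hF B α b * g = g * (g⁻¹ * Um hF B α b * g) by group, mulVec_mul, ha,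
      Matrix.mulVec_smul]
  obtain ⟨x, y, z, hv⟩ := exists_co hF B (suVal g *ᵥ e)
  rw [hv, U_act hF B hb, smul_co] at h1
  obtain ⟨k0, k1, k2⟩ := co_inj hF B h1
  have hiso : x * cj z + y * cj y + z * cj x = 0 := by rw [← B.h_co hF, ← hv, su_form, B.P.ee]
  by_cases hz : z = 0
  · subst hz
    have hy : y = 0 := by simpa using hiso
    exact ⟨x, by rw [hv, hy]; simp [co]⟩
  · exfalso
    have ha1 : a = 1 := mul_right_cancel₀ hz (by rw [one_mul]; exact k2.symm)
    subst ha1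
    have hα : α = 0 := (mul_eq_zero.1 (show α * z = 0 by linear_combination k1)).resolve_right hz
    subst hα
    have hb0 : b = 0 :=
      (mul_eq_zero.1 (show b * z = 0 by rw [map_zero] at k0; linear_combination k0)).resolve_right hz
    subst hb0
    exact hu1 (U_zero hF B)

end Cfsg.Agent.Transfer.U3Min
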