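import Cfsg.Agent.Lib.Transfer.PSUThreeIndex.Params

/-!
There is no transitive subgroup of order 439560 in `SU₃(11)`: the elements of order a multiple of 37 and
those of order 11 would be too many.
-/

set_option autoImplicit false
set_option linter.unusedSectionVars false
set_option maxHeartbeats 1000000
set_option maxRecDepth 10000

namespace Cfsg.Agent.Transfer.U3Min

open Matrix Cfsg Cfsg.Agent.Classical Cfsg.Agent.Classical.PSUAut Cfsg.Agent.Fus.UnitN Cfsg.Agent.Lie.SUGen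
  Cfsg.Agent.Lie.SU3Pres

theorem card_sigma_const {ι : Type*} [Finite ι] {α : ι → Type*} [∀ i, Finite (α i)] {m : ℕ}
    (hm : ∀ i, Nat.card (α i) = m) : Nat.card (Σ i, α i) = Nat.card ι * m := by
  haveI : Fintype ι := Fintype.ofFinite ι
  rw [Nat.card_sigma, Finset.sum_congr rfl (fun i _ => hm i), Finset.sum_const, Finset.card_univ, smul_eq_mul,
    Nat.card_eq_fintype_card]

theorem card_ne_one {G : Type*} [Group G] [Finite G] :
    Nat.card {x : G // x ≠ 1} = Nat.card G - 1 := by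
  classical
  haveI : Fintype G := Fintype.ofFinite G
  rw [Nat.card_eq_fintype_card, Nat.card_eq_fintype_card, Fintype.card_subtype_compl,
    Fintype.card_subtype_eq]

variable {F : Type*} [Field F] [Fintype F] {q : ℕ} (hF : Fintype.card F = q ^ 2)

local notation "cj" => qFrob hF

variable {e n f : Fin 3 → F} (B : Frame3 q e n f)

include hF B

theorem scalar_mem {H : Subgroup (SU 3 F q)} (h11 : q = 11) {ω : Fˣ} (hω : ω ∈ tSet B H)
    (hω3 : orderOf ω = 3) :
    Tm hF B (ω : F) ∈ H ∧ Tm hF B (ω : F) ^ 3 = 1 ∧ Tm hF B (ω : F) ≠ 1 ∧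
      ∀ s : SU 3 F q, Tm hF B (ω : F) * s = s * Tm hF B (ω : F) := by
  have hω0 : (ω : F) ≠ 0 := ω.ne_zero
  have hp3 : (ω : F) ^ 3 = 1 := by
    rw [← Units.val_pow_eq_pow_val, ← hω3, pow_orderOf_eq_one, Units.val_one]
  have hne : (ω : F) ≠ 1 := fun h0 => by
    rw [Units.val_eq_one] at h0
    rw [h0, orderOf_one] at hω3
    omega
  have hcj : cj (ω : F) = (ω : F) ^ 2 := by
    rw [qFrob_apply, show q = 2 + 3 * 3 by omega, pow_add, pow_mul, hp3, one_pow, mul_one]
  have hscal : ∀ v : Fin 3 → F, suVal (Tm hF B (ω : F)) *ᵥ v = (ω : F) • v := by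
    intro v
    obtain ⟨x, y, z, rfl⟩ := exists_co hF B v
    rw [T_act hF B hω0, hcj, smul_co]
    congr 1
    · field_simp
    · field_simp
      linear_combination (-z) * hp3
  have hcent : ∀ s : SU 3 F q, Tm hF B (ω : F) * s = s * Tm hF B (ω : F) := fun s =>
    suVal_ext (Matrix.ext_iff_mulVec.2 fun v => by
      rw [suVal_mul, suVal_mul, ← Matrix.mulVec_mulVec, ← Matrix.mulVec_mulVec, hscal, hscal,
        Matrix.mulVec_smul])
  obtain ⟨g, hg, he⟩ := (mem_tSet hF B).1 hω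
  obtain ⟨α, b, -, hb, rfl⟩ := bor_form hF B he
  have hU : Um hF B α b ^ 1331 = 1 := by
    have h1 := Subgroup.orderOf_dvd_natCard (Uni hF B) (x := Um hF B α b) ⟨α, b, hb, rfl⟩
    rw [card_Uni hF B, show q ^ 3 = 1331 by rw [h11]; norm_num] at h1
    exact orderOf_dvd_iff_pow_eq_one.1 h1
  have hT3 : Tm hF B (ω : F) ^ 3 = 1 := by rw [T_pow hF B hω0, hp3, T_one hF B]
  refine ⟨?_, hT3, ?_, hcent⟩
  · have h1 := pow_mem hg 2662
    rwa [(show Commute (Um hF B α b) (Tm hF B (ω : F)) from (hcent _).symm).mul_pow,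
      show 2662 = 1331 * 2 by norm_num, pow_mul, hU, one_pow, one_mul,
      show 1331 * 2 = 1 + 3 * 887 by norm_num, pow_add, pow_mul, hT3, one_pow, mul_one, pow_one] at h1
  · intro h0
    have h1 := hscal e
    rw [h0, suVal_one', Matrix.one_mulVec] at h1
    exact hne (smul_left_injective F B.P.ne_zero (h1.symm.trans (one_smul F e).symm))

theorem eleven_false {H : Subgroup (SU 3 F q)} (hH : (q ^ 3 + 1) * (q ^ 2 - 1) ≤ Nat.card H) (h11 : q = 11)
    (hS : Nat.card (H ⊓ Uni hF B : Subgroup (SU 3 F q)) = 11) (ht : Nat.card (tSet B H) = 30) : False := by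
  classical
  haveI : Fact (Nat.Prime 37) := ⟨by norm_num⟩
  haveI : Fact (Nat.Prime 3) := ⟨Nat.prime_three⟩
  have hN : Nat.card H = 439560 := by rw [card_eq_of_big hF B hH, hS, ht, h11]; norm_num
  obtain ⟨k, hk0, h1, h2, h3, -⟩ := exists_k hF B hH hN (r := 37) (by norm_num) (by norm_num)
    (by rw [hS, ht]; norm_num) (by rw [h11]; norm_num)
  have hk : k = 3960 := by
    have h4 := h3 3 (by norm_num)
    obtain ⟨d, rfl⟩ := h4
    have hk : 2 ^ 3 * d ∣ 2 ^ 3 * 1485 :=
      Nat.dvd_of_mul_dvd_mul_right (show 0 < 37 by norm_num) (show 2 ^ 3 * d * 37 ∣ 2 ^ 3 * 1485 * 37 from h1)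
    have hd : d ∣ 1485 := Nat.dvd_of_mul_dvd_mul_left (show 0 < 2 ^ 3 by norm_num) hk
    have hd' : d < 1486 := Nat.lt_succ_of_le (Nat.le_of_dvd (by norm_num) hd)
    have key : ∀ d < 1486, d ∣ 1485 → (2 ^ 3 * d) % 37 = 1 → d = 495 := by decide
    rw [key d hd' hd h2]
    norm_num
  -- the scalar
  obtain ⟨ω, hω⟩ := exists_prime_orderOf_dvd_card' (G := tSet B H) 3 (by rw [ht]; norm_num)
  obtain ⟨hζH, hζ3, hζ1, hcent⟩ := scalar_mem hF B h11 ω.2 (by rw [Subgroup.orderOf_coe, hω])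
  obtain ⟨ζ, hζ⟩ : ∃ ζ : H, ζ = ⟨_, hζH⟩ := ⟨_, rfl⟩
  have hζo : orderOf ζ = 3 := orderOf_eq_prime (Subtype.ext (by rw [hζ]; exact hζ3))
    (fun h0 => hζ1 (by rw [hζ] at h0; exact congrArg Subtype.val h0))
  have hζc : ∀ x : H, Commute x ζ := fun x => Subtype.ext (by rw [hζ]; exact (hcent x).symm)
  let A := Σ P : Sylow 37 H, {x : (P : Subgroup H) // x ≠ 1} × Fin 3
  let C := Σ P : SU 3 F q ⧸ Bor B, {u : (conjH H P.out ⊓ Uni hF B : Subgroup (SU 3 F q)) // u ≠ 1}
  let ψ : A ⊕ C → H := Sum.elim (fun a => (a.2.1.1 : H) * ζ ^ (a.2.2 : ℕ))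
    (fun c => ⟨c.1.out * (c.2.1 : SU 3 F q) * c.1.out⁻¹, c.2.1.2.1⟩)
  have hcardP : ∀ P : Sylow 37 H, Nat.card (P : Subgroup H) = 37 := fun P => by
    rw [P.card_eq_multiplicity, hN, show (439560 : ℕ) = 37 * 11880 by norm_num,
      Nat.factorization_mul (by norm_num) (by norm_num), Finsupp.add_apply, (Fact.out : Nat.Prime 37).factorization_self,
      Nat.factorization_eq_zero_of_not_dvd (by norm_num : ¬ 37 ∣ 11880), pow_one]
  have h37 : ∀ (P : Sylow 37 H) (x : (P : Subgroup H)), x ^ 37 = 1 := fun P x => by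
    have h4 : x ^ Nat.card (P : Subgroup H) = 1 := pow_card_eq_one'
    rwa [hcardP P] at h4
  have hz3 : ζ ^ 3 = 1 := by
    have h4 := pow_orderOf_eq_one ζ
    rwa [hζo] at h4
  have hx75 : ∀ (P : Sylow 37 H) (x : (P : Subgroup H)) (i : ℕ),
      ((x : H) * ζ ^ i) ^ 75 = x := by
    intro P x i
    have h4 : (x : H) ^ 37 = 1 := by
      rw [← Subgroup.coe_pow, h37 P x, Subgroup.coe_one]
    rw [((hζc _).pow_right i).mul_pow, show 75 = 37 * 2 + 1 by norm_num, pow_add, pow_mul, h4, one_pow,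
      one_mul, pow_one, ← pow_mul, show i * (37 * 2 + 1) = 3 * (25 * i) by ring, pow_mul, hz3, one_pow, mul_one]
  have hy : ∀ c : C, (ψ (Sum.inr c)) ^ 1331 = 1 := by
    rintro ⟨P, u, hu1⟩
    refine Subtype.ext ?_
    show (P.out * (u : SU 3 F q) * P.out⁻¹) ^ 1331 = 1
    rw [conj_pow, show (u : SU 3 F q) ^ 1331 = 1 from ?_, mul_one, mul_inv_cancel]
    have h4 := Subgroup.orderOf_dvd_natCard (Uni hF B) u.2.2
    rw [card_Uni hF B, show q ^ 3 = 1331 by rw [h11]; norm_num] at h4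
    exact orderOf_dvd_iff_pow_eq_one.1 h4
  have hmix : ∀ a c, ψ (Sum.inl a) ≠ ψ (Sum.inr c) := by
    rintro ⟨P, ⟨x, hx1⟩, i⟩ c h0
    have h4 := hy c
    rw [← h0] at h4
    have h5 : ((x : H)) ^ 1331 = 1 := by
      rw [← hx75 P x i, ← pow_mul, mul_comm, pow_mul]
      show (ψ (Sum.inl ⟨P, ⟨x, hx1⟩, i⟩) ^ 1331) ^ 75 = 1
      rw [h4, one_pow]
    have h6 : (x : H) ^ 37 = 1 := by
      rw [← Subgroup.coe_pow, h37 P x, Subgroup.coe_one]
    have h7 : (x : H) = 1 := by
      have := pow_gcd_eq_one.2 ⟨h5, h6⟩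
      simpa using this
    exact hx1 (Subtype.ext h7)
  have hψ : Function.Injective ψ := by
    rintro (a | c) (a' | c') h0
    · obtain ⟨P, ⟨x, hx1⟩, i⟩ := a
      obtain ⟨P', ⟨x', hx1'⟩, i'⟩ := a'
      have h4 : ((x : H)) * ζ ^ (i : ℕ) = (x' : H) * ζ ^ (i' : ℕ) := h0
      have h5 : (x : H) = x' := by rw [← hx75 P x i, h4, hx75]
      have hPP : P = P' := by
        refine Sylow.ext ?_
        have hle : ∀ (Q : Sylow 37 H) (y : (Q : Subgroup H)), y ≠ 1 →
            Subgroup.zpowers (y : H) = (Q : Subgroup H) := fun Q y hy1 => by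
          refine Subgroup.eq_of_le_of_card_ge (Subgroup.zpowers_le.2 y.2) (le_of_eq ?_)
          rw [Nat.card_zpowers, Subgroup.orderOf_coe, hcardP Q]
          have h8 : orderOf y ∣ 37 := by
            have h10 := orderOf_dvd_natCard y
            rwa [hcardP Q] at h10
          exact ((Nat.dvd_prime Fact.out).1 h8).resolve_left (fun h9 => hy1 (orderOf_eq_one_iff.1 h9)) |>.symm
        rw [← hle P x hx1, h5, hle P' x' hx1']
      subst hPP
      obtain rfl : x = x' := Subtype.ext h5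
      rw [mul_right_inj] at h4
      have h9 := pow_injOn_Iio_orderOf (x := ζ) (by simp [hζo, i.2]) (by simp [hζo, i'.2]) h4
      rw [Fin.ext h9]
    · exact absurd h0 (hmix a c')
    · exact absurd h0.symm (hmix a' c)
    · obtain ⟨P, u, hu1⟩ := c
      obtain ⟨P', u', hu1'⟩ := c'
      have h4 : P.out * (u : SU 3 F q) * P.out⁻¹ = P'.out * (u' : SU 3 F q) * P'.out⁻¹ :=
        congrArg Subtype.val h0
      have h5 : (P.out⁻¹ * P'.out)⁻¹ * (u : SU 3 F q) * (P.out⁻¹ * P'.out) = u' := by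
        rw [show (P.out⁻¹ * P'.out)⁻¹ * (u : SU 3 F q) * (P.out⁻¹ * P'.out) =
          P'.out⁻¹ * (P.out * (u : SU 3 F q) * P.out⁻¹) * P'.out by group, h4]
        group
      have h6 : P.out⁻¹ * P'.out ∈ Bor B :=
        fixed_Uni hF B u.2.2 (fun h7 => hu1 (Subtype.ext h7)) (by rw [h5]; exact Uni_le_Bor hF B u'.2.2)
      have hPP : P = P' := by
        rw [← QuotientGroup.out_eq' P, ← QuotientGroup.out_eq' P']
        exact QuotientGroup.eq.2 h6
      subst hPP
      simp only [mul_left_inj, mul_right_inj] at h4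
      obtain rfl : u = u' := Subtype.ext h4
      rfl
  have hcount := Nat.card_le_card_of_injective ψ hψ
  rw [Nat.card_sum, hN,
    card_sigma_const (m := 108) (fun P => by
      rw [Nat.card_prod, Nat.card_fin, card_ne_one, hcardP]),
    card_sigma_const (m := 10) (fun P => by
      rw [card_ne_one, (same_data hF B hH _).1, hS]),
    ← hk0, hk, card_points hF B, show q ^ 3 = 1331 by rw [h11]; norm_num] at hcount
  omega

end Cfsg.Agent.Transfer.U3Min
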