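import Cfsg.Agent.Lib.Transfer.PSUThreeIndex.Conj

/-!
In even characteristic a transitive subgroup whose line stabilisers are tori would pair the odd number
of isotropic lines.
-/

set_option autoImplicit false
set_option linter.unusedSectionVars false

namespace Cfsg.Agent.Transfer.U3Min

open Matrix Cfsg Cfsg.Agent.Classical Cfsg.Agent.Classical.PSUAut Cfsg.Agent.Fus.UnitN Cfsg.Agent.Lie.SUGen
  Cfsg.Agent.Lie.SU3Pres

variable {F : Type*} [Field F] [Fintype F] {q : ℕ} (hF : Fintype.card F = q ^ 2)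

local notation "cj" => qFrob hF
local notation "h" => hermForm 3 F q

variable {e n f : Fin 3 → F} (B : Frame3 q e n f)

include hF B

theorem W_e : suVal (Wm hF B) *ᵥ e = f := by simpa [co] using W_act hF B 1 0 0

theorem W_f : suVal (Wm hF B) *ᵥ f = e := by simpa [co] using W_act hF B 0 0 1

/-- The lines fixed by a regular torus element. -/
theorem fixed_torus {l : F} (hl : l ≠ 0) (h12 : l * l ≠ cj l) (h13 : l * cj l ≠ 1)
    (h23 : cj l * cj l ≠ l) {g : SU 3 F q}
    (hfix : Tm hF B l • (QuotientGroup.mk g : SU 3 F q ⧸ Bor B) = QuotientGroup.mk g) :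
    (QuotientGroup.mk g : SU 3 F q ⧸ Bor B) = QuotientGroup.mk 1 ∨
      (QuotientGroup.mk g : SU 3 F q ⧸ Bor B) = QuotientGroup.mk (Wm hF B) := by
  rw [show Tm hF B l • (QuotientGroup.mk g : SU 3 F q ⧸ Bor B) = QuotientGroup.mk (Tm hF B l * g) from rfl,
    eq_comm, QuotientGroup.eq, ← mul_assoc] at hfix
  obtain ⟨a, ha⟩ := hfix
  have hl' : cj l ≠ 0 := (map_ne_zero (qFrob hF)).2 hl
  have h1 : suVal (Tm hF B l) *ᵥ (suVal g *ᵥ e) = a • (suVal g *ᵥ e) := by
    rw [← mulVec_mul, show Tm hF B l * g = g * (g⁻¹ * Tm hF B l * g) by group, mulVec_mul, ha,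
      Matrix.mulVec_smul]
  obtain ⟨x, y, z, hv⟩ := exists_co hF B (suVal g *ᵥ e)
  rw [hv, T_act hF B hl, smul_co] at h1
  obtain ⟨k0, k1, k2⟩ := co_inj hF B h1
  have hiso : x * cj z + y * cj y + z * cj x = 0 := by rw [← B.h_co hF, ← hv, su_form, B.P.ee]
  rw [mul_comm, mul_comm a] at k0
  rw [mul_comm, mul_comm a] at k1
  rw [mul_comm, mul_comm a] at k2
  have hy : y = 0 := by
    by_contra hy
    have ea := mul_left_cancel₀ hy k1
    have hx : x = 0 := by
      by_contra hx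
      have eb := mul_left_cancel₀ hx k0
      rw [← ea, eq_div_iff hl] at eb
      exact h12 eb
    subst hx
    rw [map_zero, zero_mul, mul_zero, zero_add, add_zero] at hiso
    exact mul_ne_zero hy ((map_ne_zero (qFrob hF)).2 hy) hiso
  by_cases hz : z = 0
  · refine Or.inl (QuotientGroup.eq.2 ?_)
    rw [mul_one]
    exact inv_mem ⟨x, by rw [hv, hy, hz]; simp [co]⟩
  · refine Or.inr (QuotientGroup.eq.2 ?_)
    have hx : x = 0 := by
      by_contra hx
      have eb := (mul_left_cancel₀ hx k0).trans (mul_left_cancel₀ hz k2).symm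
      exact h13 ((mul_eq_one_iff_eq_inv₀ hl').2 eb)
    refine ⟨z⁻¹, ?_⟩
    rw [mulVec_mul, W_e hF B, show f = z⁻¹ • (suVal g *ᵥ e) by rw [hv, hx, hy, smul_co]; simp [co, hz],
      Matrix.mulVec_smul, Matrix.mulVec_mulVec, suVal_inv_mul, Matrix.one_mulVec]

/-- In even characteristic the stabiliser of a line is not a torus. -/
theorem parity_false {H : Subgroup (SU 3 F q)} (hH : (q ^ 3 + 1) * (q ^ 2 - 1) ≤ Nat.card H)
    (hev : Even q) (hS : H ⊓ Uni hF B = ⊥) (hall : ∀ l : Fˣ, Tm hF B (l : F) ∈ H)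
    {l₀ : F} (hl : l₀ ≠ 0) (h12 : l₀ * l₀ ≠ cj l₀) (h13 : l₀ * cj l₀ ≠ 1) (h23 : cj l₀ * cj l₀ ≠ l₀) :
    False := by
  classical
  let P := SU 3 F q ⧸ Bor B
  have hT : ∀ g ∈ H, g ∈ Bor B → ∃ l : F, l ≠ 0 ∧ g = Tm hF B l := by
    intro g hg hgB
    obtain ⟨l, he⟩ := hgB
    obtain ⟨α, b, hl0, hb, rfl⟩ := bor_form hF B he
    have hU : Um hF B α b ∈ H ⊓ Uni hF B :=
      ⟨by have h0 := mul_mem hg (inv_mem (hall (Units.mk0 l hl0)))
          rwa [Units.val_mk0, mul_inv_cancel_right] at h0, ⟨α, b, hb, rfl⟩⟩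
    rw [hS, Subgroup.mem_bot] at hU
    exact ⟨l, hl0, by rw [hU, one_mul]⟩
  have hTW : ∀ l : F, l ≠ 0 → Tm hF B l • (QuotientGroup.mk (Wm hF B) : P) = QuotientGroup.mk (Wm hF B) := by
    intro l hl
    show QuotientGroup.mk (Tm hF B l * Wm hF B) = _
    rw [eq_comm, QuotientGroup.eq, show (Wm hF B)⁻¹ = Wm hF B from inv_eq_of_mul_eq_one_right (W_sq hF B),
      ← mul_assoc, W_conj hF B hl]
    exact ⟨_, T_e hF B (inv_ne_zero ((map_ne_zero (qFrob hF)).2 hl))⟩
  have hex : ∀ x : P, ∃ k ∈ H, k • (QuotientGroup.mk 1 : P) = x := by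
    intro x
    obtain ⟨g, rfl⟩ := QuotientGroup.mk_surjective x
    obtain ⟨k, hk, b, hb, rfl⟩ := trans_form hF B hH g
    refine ⟨k, hk, ?_⟩
    show QuotientGroup.mk (k * 1) = _
    rw [mul_one, QuotientGroup.eq, inv_mul_cancel_left]
    exact hb
  choose k hk hkx using hex
  let φ : P → P := fun x => k x • (QuotientGroup.mk (Wm hF B) : P)
  -- well defined
  have hwd : ∀ k' ∈ H, φ (k' • (QuotientGroup.mk 1 : P)) = k' • (QuotientGroup.mk (Wm hF B) : P) := by
    intro k' hk'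
    set x := k' • (QuotientGroup.mk 1 : P)
    have h1 := hkx x
    have hmem : k'⁻¹ * k x ∈ Bor B := by
      have h2 : (QuotientGroup.mk (k' * 1) : P) = QuotientGroup.mk (k x * 1) := h1.symm
      rwa [mul_one, mul_one, QuotientGroup.eq] at h2
    obtain ⟨l, hl0, hkl⟩ := hT _ (mul_mem (inv_mem hk') (hk x)) hmem
    show k x • (QuotientGroup.mk (Wm hF B) : P) = _
    rw [show k x = k' * Tm hF B l by rw [← hkl, mul_inv_cancel_left], mul_smul, hTW l hl0]
  have hW1 : (QuotientGroup.mk (Wm hF B) : P) ≠ QuotientGroup.mk 1 := by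
    intro h1
    rw [QuotientGroup.eq, mul_one] at h1
    obtain ⟨a, ha⟩ := inv_mem h1
    rw [inv_inv, W_e hF B] at ha
    have h2 : h e f = 1 := B.P.ef
    rw [ha, h_smul_right hF, B.P.ee, mul_zero] at h2
    exact zero_ne_one h2
  have hfree : ∀ x, φ x ≠ x := by
    intro x h0
    have h1 : k x • (QuotientGroup.mk (Wm hF B) : P) = k x • (QuotientGroup.mk 1 : P) := h0.trans (hkx x).symm
    exact hW1 ((smul_left_cancel_iff _).1 h1)
  -- the pair of the base line
  set w := k (QuotientGroup.mk (Wm hF B)) with hw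
  have hwx : w • (QuotientGroup.mk 1 : P) = QuotientGroup.mk (Wm hF B) := hkx _
  have hback : w • (QuotientGroup.mk (Wm hF B) : P) = QuotientGroup.mk 1 := by
    have hconj : ∀ l : Fˣ, ∃ l' : Fˣ, w⁻¹ * Tm hF B (l : F) * w = Tm hF B (l' : F) := by
      intro l
      have hB : w⁻¹ * Tm hF B (l : F) * w ∈ Bor B := by
        have h1 := hTW (l : F) l.ne_zero
        rw [← hwx, ← mul_smul] at h1
        have h2 : (QuotientGroup.mk (Tm hF B (l : F) * w * 1) : P) = QuotientGroup.mk (w * 1) := h1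
        rw [mul_one, mul_one, eq_comm, QuotientGroup.eq, ← mul_assoc] at h2
        exact h2
      obtain ⟨l', hl', he⟩ := hT _ (mul_mem (mul_mem (inv_mem (hk _)) (hall l)) (hk _)) hB
      exact ⟨Units.mk0 l' hl', he⟩
    choose ψ hψ using hconj
    have hinj : Function.Injective ψ := by
      intro a b hab
      have h1 : w⁻¹ * Tm hF B (a : F) * w = w⁻¹ * Tm hF B (b : F) * w := by rw [hψ, hψ, hab]
      have h2 := congrArg (fun s => suVal s *ᵥ e) (mul_left_cancel (mul_right_cancel h1))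
      simp only [T_e hF B a.ne_zero, T_e hF B b.ne_zero] at h2
      exact Units.ext (smul_left_injective F B.P.ne_zero h2)
    obtain ⟨l, hl'⟩ := (Finite.injective_iff_surjective.1 hinj) (Units.mk0 l₀ hl)
    have hfix : Tm hF B l₀ • (w⁻¹ • (QuotientGroup.mk 1 : P)) = w⁻¹ • (QuotientGroup.mk 1 : P) := by
      rw [← Units.val_mk0 hl, ← hl', ← hψ, mul_smul, mul_smul, smul_inv_smul]
      congr 1
      show QuotientGroup.mk (Tm hF B (l : F) * 1) = _
      rw [mul_one, eq_comm, QuotientGroup.eq, inv_one, one_mul]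
      exact ⟨_, T_e hF B l.ne_zero⟩
    obtain ⟨g, hg⟩ := QuotientGroup.mk_surjective (w⁻¹ • (QuotientGroup.mk 1 : P))
    rw [← hg] at hfix
    rcases fixed_torus hF B hl h12 h13 h23 hfix with h1 | h1 <;> rw [hg, inv_smul_eq_iff] at h1
    · exact absurd (hwx.symm.trans h1.symm) hW1
    · exact h1.symm
  have hinv : ∀ x, φ (φ x) = x := by
    intro x
    have h1 : φ x = (k x * w) • (QuotientGroup.mk 1 : P) := by rw [mul_smul, hwx]
    rw [h1, hwd _ (mul_mem (hk x) (hk _)), mul_smul, hback, hkx]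
  haveI : Fintype P := Fintype.ofFinite P
  have hsum : ∑ _x : P, (1 : ZMod 2) = 0 :=
    Finset.sum_involution (fun x _ => φ x) (fun _ _ => by decide) (fun x _ _ => hfree x)
      (fun x _ => Finset.mem_univ _) (fun x _ => hinv x)
  rw [Finset.sum_const, nsmul_one, Finset.card_univ, ← Nat.card_eq_fintype_card, card_points hF B,
    ZMod.natCast_eq_zero_iff] at hsum
  have h1 : Even (q ^ 3) := Nat.even_pow.2 ⟨hev, by norm_num⟩
  obtain ⟨j, hj⟩ := h1
  omega

end Cfsg.Agent.Transfer.U3Min
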