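import Cfsg.Agent.Lib.Transfer.PSUThreeIndex.Params
import Cfsg.Agent.Lib.Transfer.PSUThreeIndex.Parity
import Cfsg.Agent.Lib.Transfer.PSUThreeIndex.Eleven

/-!
Large subgroups without transvections.
-/

set_option autoImplicit false
set_option linter.unusedSectionVars false
set_option maxHeartbeats 1000000
set_option maxRecDepth 10000

namespace Cfsg.Agent.Transfer.U3Min

open Matrix Cfsg Cfsg.Agent.Classical Cfsg.Agent.Classical.PSUAut Cfsg.Agent.Fus.UnitN Cfsg.Agent.Lie.SUGen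
  Cfsg.Agent.Lie.SU3Pres

variable {F : Type*} [Field F] [Fintype F] {q : ℕ} (hF : Fintype.card F = q ^ 2)

local notation "cj" => qFrob hF

variable {e n f : Fin 3 → F} (B : Frame3 q e n f)

include hF B

theorem all_torus {H : Subgroup (SU 3 F q)} {l : Fˣ} (hl : Tm hF B (l : F) ∈ H) (m : ℕ) :
    Tm hF B ((l ^ m : Fˣ) : F) ∈ H := by
  rw [Units.val_pow_eq_pow_val, ← T_pow hF B l.ne_zero]
  exact pow_mem hl m

theorem even_false {H : Subgroup (SU 3 F q)} (hq : 3 ≤ q) (hev : Even q)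
    (hH : (q ^ 3 + 1) * (q ^ 2 - 1) ≤ Nat.card H) (hA : aSet hF B H = ⊥) : False := by
  classical
  obtain ⟨p, hp⟩ := CharP.exists F
  haveI : Fact p.Prime := ⟨CharP.char_is_prime F p⟩
  obtain ⟨k, -, hk⟩ := exists_pk hF B p
  have hp2 : p = 2 := ((Nat.prime_dvd_prime_iff_eq Nat.prime_two (Fact.out : p.Prime)).1
    (Nat.prime_two.dvd_of_dvd_pow (hk ▸ even_iff_two_dvd.1 hev))).symm
  subst hp2
  have hW : wSet hF B H = ⊥ := by
    rw [AddSubgroup.eq_bot_iff_forall]
    rintro α ⟨b, hb, hK⟩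
    by_contra hα0
    have h1 : α * cj α ∈ aSet hF B H := by
      refine ⟨by rw [map_mul, cj_cj hF, mul_comm (cj α) α, CharTwo.add_self_eq_zero], ?_⟩
      have h1 := mul_mem hK hK
      rw [U_mul hF B hb hb, CharTwo.add_self_eq_zero, CharTwo.add_self_eq_zero, zero_sub, CharTwo.neg_eq] at h1
      rwa [mul_comm] at h1
    rw [hA, AddSubgroup.mem_bot] at h1
    exact mul_ne_zero hα0 ((map_ne_zero (qFrob hF)).2 hα0) h1
  have hS : Nat.card (H ⊓ Uni hF B : Subgroup (SU 3 F q)) = 1 := by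
    rw [card_inf_Uni hF B, hA, hW, AddSubgroup.card_bot, one_mul]
  have hle := le_stab_of_big hF B hH
  rw [hS, one_mul] at hle
  have ht : Nat.card (tSet B H) = q ^ 2 - 1 := le_antisymm (card_tSet_le hF B H) hle
  have hqq : 3 * q ≤ q ^ 2 := by rw [pow_two]; exact Nat.mul_le_mul_right q hq
  obtain ⟨l, hl, hlo, hgen⟩ := exists_gen_units (tSet B H)
  rw [ht] at hlo
  have hne : ∀ m, 0 < m → m < q ^ 2 - 1 → (l : F) ^ m ≠ 1 := fun m h0 h1 h2 => by
    rw [← Units.val_pow_eq_pow_val, Units.val_eq_one] at h2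
    exact absurd (Nat.le_of_dvd h0 (hlo ▸ orderOf_dvd_of_pow_eq_one h2)) (not_le.2 h1)
  have hl0 : (l : F) ≠ 0 := l.ne_zero
  have hth : th hF (l : F) ≠ 1 := by
    rw [th_eq_pow hF B hl0]; exact hne _ (by omega) (by omega)
  have hN : (l : F) * cj (l : F) ≠ 1 := by
    rw [norm_eq_pow hF B]; exact hne _ (by omega) (by omega)
  obtain ⟨u, hu, hT⟩ := exists_torus hF B hl hth hN
  have hH' : (q ^ 3 + 1) * (q ^ 2 - 1) ≤ Nat.card (conjH H u) := conjH_big hF B hH u
  refine parity_false hF B hH' hev (Subgroup.eq_bot_of_card_eq _ ((same_data hF B hH u).1.trans hS))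
    (fun x => ?_) hl0 ?_ hN ?_
  · obtain ⟨m, rfl⟩ : ∃ m : ℕ, l ^ m = x := by
      have htop : tSet B H = ⊤ := Subgroup.eq_top_of_card_eq _ (by
        rw [ht, Nat.card_units, Nat.card_eq_fintype_card, hF])
      exact hgen x (htop ▸ Subgroup.mem_top _)
    exact all_torus hF B hT m
  · intro h1
    rw [qFrob_apply, ← pow_two, show q = 2 + (q - 2) by omega, pow_add] at h1
    exact hne (q - 2) (by omega) (by omega) (mul_left_cancel₀ (pow_ne_zero 2 hl0) (h1.symm.trans (mul_one _).symm))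
  · intro h1
    rw [qFrob_apply, ← pow_add, show q + q = 1 + (2 * q - 1) by omega, pow_add, pow_one] at h1
    exact hne (2 * q - 1) (by omega) (by omega) (mul_left_cancel₀ hl0 (h1.trans (mul_one _).symm))

/-- The bound on the reflection torus. -/
theorem torus_bound {H : Subgroup (SU 3 F q)} (hodd : Odd q)
    (hH : (q ^ 3 + 1) * (q ^ 2 - 1) ≤ Nat.card H) (hA : aSet hF B H = ⊥)
    (hev : 2 ∣ Nat.card (tSet B H)) (hnd : ¬ Nat.card (tSet B H) ∣ q + 1) :
    ∃ r, r * (Nat.card (tSet B H) / Nat.gcd (Nat.card (tSet B H)) (q + 1)) ≤ q - 1 ∧ q - 3 ≤ 2 * (r * r) := by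
  classical
  obtain ⟨l, hl, hlo, hgen⟩ := exists_gen_units (tSet B H)
  have hl0 : (l : F) ≠ 0 := l.ne_zero
  have hN : (l : F) * cj (l : F) ≠ 1 := by
    rw [norm_eq_pow hF B, ← Units.val_pow_eq_pow_val]
    intro h1
    rw [Units.val_eq_one] at h1
    exact hnd (hlo ▸ orderOf_dvd_of_pow_eq_one h1)
  have hth : th hF (l : F) ≠ 1 := by
    rw [th_eq_pow hF B hl0, ← Units.val_pow_eq_pow_val]
    intro h1
    rw [Units.val_eq_one] at h1
    have h2 : 2 ∣ 2 * q - 1 := hev.trans (hlo ▸ orderOf_dvd_of_pow_eq_one h1)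
    have := two_le_q hF
    omega
  obtain ⟨u, hu, hT⟩ := exists_torus hF B hl hth hN
  have hH' : (q ^ 3 + 1) * (q ^ 2 - 1) ≤ Nat.card (conjH H u) := conjH_big hF B hH u
  have htS : tSet B (conjH H u) = tSet B H := (same_data hF B hH u).2.2
  have hall : ∀ x ∈ tSet B (conjH H u), Tm hF B ((x : Fˣ) : F) ∈ conjH H u := fun x hx => by
    obtain ⟨m, rfl⟩ := hgen x (htS ▸ hx)
    exact all_torus hF B hT m
  have h2 := two_ne hF B hodd
  obtain ⟨x, hx⟩ := exists_prime_orderOf_dvd_card' (G := tSet B H) (hp := ⟨Nat.prime_two⟩) 2 hev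
  have hx' : ((x : Fˣ) : F) = -1 := by
    have h3 : orderOf (x : Fˣ) = 2 := by rw [Subgroup.orderOf_coe, hx]
    have h4 : ((x : Fˣ) : F) * ((x : Fˣ) : F) = 1 := by
      rw [← Units.val_mul, ← pow_two, ← h3, pow_orderOf_eq_one, Units.val_one]
    refine (mul_self_eq_one_iff.1 h4).resolve_left fun h5 => ?_
    rw [Units.val_eq_one] at h5
    rw [h5, orderOf_one] at h3
    omega
  have ht0 : Tm hF B (-1) ∈ conjH H u := hx' ▸ hall _ (by rw [htS]; exact x.2)
  obtain ⟨r, h3, h4⟩ := line_bound hF B h2 (trans_form hF B hH') ((aSet_eq_bot_iff hF B hH u).2 hA) ht0 hall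
    (l₀ := l) (htS ▸ hl) hN
  refine ⟨r, ?_, h4⟩
  rw [htS] at h3
  refine le_trans (Nat.mul_le_mul_left r (le_of_eq ?_)) h3
  have hz : Subgroup.zpowers l = tSet B H := le_antisymm (Subgroup.zpowers_le.2 hl) fun y hy => by
    obtain ⟨m, rfl⟩ := hgen y hy
    exact Subgroup.npow_mem_zpowers l m
  rw [← hlo, ← orderOf_pow, ← hz, MonoidHom.map_zpowers, Nat.card_zpowers]
  congr 1
  exact Units.ext (by
    rw [Units.val_pow_eq_pow_val, ← norm_eq_pow hF B]
    rfl)

theorem three_case {H : Subgroup (SU 3 F q)} (hH : (q ^ 3 + 1) * (q ^ 2 - 1) ≤ Nat.card H) (h3 : q = 3)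
    (hSt : Nat.card (H ⊓ Uni hF B : Subgroup (SU 3 F q)) * Nat.card (tSet B H) = 8) : False := by
  haveI : Fact (Nat.Prime 7) := ⟨by norm_num⟩
  have hN : Nat.card H = 224 := by rw [card_eq_of_big hF B hH, hSt, h3]; norm_num
  obtain ⟨k, -, h1, h2, h4, -⟩ := exists_k hF B hH hN (r := 7) (by norm_num) (by norm_num)
    (by rw [hSt]; norm_num) (by rw [h3]; norm_num)
  have hk : k ∣ 32 := Nat.dvd_of_mul_dvd_mul_right (show 0 < 7 by norm_num) (show k * 7 ∣ 32 * 7 from h1)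
  have := Nat.dvd_antisymm hk (h4 5 (by norm_num))
  omega

theorem seventeen_case {H : Subgroup (SU 3 F q)} (hH : (q ^ 3 + 1) * (q ^ 2 - 1) ≤ Nat.card H) (h17 : q = 17)
    (hSt : Nat.card (H ⊓ Uni hF B : Subgroup (SU 3 F q)) * Nat.card (tSet B H) = 408) : False := by
  haveI : Fact (Nat.Prime 13) := ⟨by norm_num⟩
  have hN : Nat.card H = 2004912 := by rw [card_eq_of_big hF B hH, hSt, h17]; norm_num
  obtain ⟨k, -, h1, h2, h3, h4⟩ := exists_k hF B hH hN (r := 13) (by norm_num) (by norm_num)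
    (by rw [hSt]; norm_num) (by rw [h17]; norm_num)
  obtain ⟨p, hp⟩ := CharP.exists F
  haveI : Fact p.Prime := ⟨CharP.char_is_prime F p⟩
  obtain ⟨j, hj0, hj⟩ := exists_pk hF B p
  have hp17 : p = 17 := (Nat.prime_dvd_prime_iff_eq (Fact.out : p.Prime) (by norm_num)).1
    (h17 ▸ hj ▸ dvd_pow_self p hj0)
  subst hp17
  have h5 := h4 17 (by norm_num) 1 (by norm_num)
  have h6 := h3 4 (by norm_num)
  have h7 : 272 ∣ k := Nat.Coprime.mul_dvd_of_dvd_of_dvd (m := 16) (n := 17) (by norm_num) (by simpa using h6)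
    (by simpa using h5)
  obtain ⟨d, rfl⟩ := h7
  have hk : 272 * d ∣ 272 * 567 :=
    Nat.dvd_of_mul_dvd_mul_right (show 0 < 13 by norm_num) (show 272 * d * 13 ∣ 272 * 567 * 13 from h1)
  have hd : d ∣ 567 := Nat.dvd_of_mul_dvd_mul_left (show 0 < 272 by norm_num) hk
  have hd' : d < 568 := Nat.lt_succ_of_le (Nat.le_of_dvd (by norm_num) hd)
  have key : ∀ d < 568, d ∣ 567 → (272 * d) % 13 ≠ 1 := by decide
  exact key d hd' hd h2

theorem twentynine_case {H : Subgroup (SU 3 F q)} (hH : (q ^ 3 + 1) * (q ^ 2 - 1) ≤ Nat.card H) (h29 : q = 29)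
    (hSt : Nat.card (H ⊓ Uni hF B : Subgroup (SU 3 F q)) * Nat.card (tSet B H) = 1218) : False := by
  haveI : Fact (Nat.Prime 271) := ⟨by norm_num⟩
  have hN : Nat.card H = 29707020 := by rw [card_eq_of_big hF B hH, hSt, h29]; norm_num
  obtain ⟨k, -, h1, h2, h3, -⟩ := exists_k hF B hH hN (r := 271) (by norm_num) (by norm_num)
    (by rw [hSt]; norm_num) (by rw [h29]; norm_num)
  have h4 := h3 2 (by norm_num)
  have hk : k ∣ 109620 :=
    Nat.dvd_of_mul_dvd_mul_right (show 0 < 271 by norm_num) (show k * 271 ∣ 109620 * 271 from h1)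
  obtain ⟨j, rfl⟩ : ∃ j, k = 271 * j + 1 := ⟨k / 271, by omega⟩
  have hj : j < 405 := by have := Nat.le_of_dvd (by norm_num) hk; omega
  have key : ∀ j < 405, 2 ^ 2 ∣ 271 * j + 1 → ¬ 271 * j + 1 ∣ 109620 := by decide
  exact key j hj h4 hk

theorem odd_false {H : Subgroup (SU 3 F q)} (hq : 3 ≤ q) (h5 : q ≠ 5) (hodd : Odd q)
    (hH : (q ^ 3 + 1) * (q ^ 2 - 1) ≤ Nat.card H) (hA : aSet hF B H = ⊥) : False := by
  classical
  set S := Nat.card (H ⊓ Uni hF B : Subgroup (SU 3 F q)) with hSdef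
  set t := Nat.card (tSet B H) with htdef
  have hSW : S = Nat.card (wSet hF B H) := by
    rw [hSdef, card_inf_Uni hF B, hA, AddSubgroup.card_bot, one_mul]
  have hle : q ^ 2 - 1 ≤ S * t := le_stab_of_big hF B hH
  have htd : t ∣ q ^ 2 - 1 := card_tSet_dvd hF B H
  have hSd : S ∣ q ^ 2 := by
    rw [hSW, ← hF, ← Nat.card_eq_fintype_card]; exact AddSubgroup.card_addSubgroup_dvd_card _
  have hSodd : Odd S := Odd.of_dvd_nat hodd.pow hSd
  have hev : 2 ∣ t := (Nat.Prime.dvd_mul Nat.prime_two).1 (even_stab hF B hodd hH) |>.resolve_left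
    fun h0 => Nat.not_even_iff_odd.2 hSodd (even_iff_two_dvd.2 h0)
  have hsq : q ^ 2 - 1 = (q + 1) * (q - 1) := by rw [← Nat.sq_sub_sq, one_pow]
  have hqo : q % 2 = 1 := Nat.odd_iff.1 hodd
  by_cases hS1 : S = 1
  · rw [hS1, one_mul] at hle
    have ht : t = q ^ 2 - 1 := le_antisymm (card_tSet_le hF B H) hle
    obtain ⟨r, hr1, hr2⟩ := torus_bound hF B hodd hH hA hev (by
      rw [← htdef, ht, hsq]
      intro h0
      have h1 := Nat.le_of_dvd (Nat.succ_pos _) h0
      have h2 : q - 1 ≤ 1 := Nat.le_of_mul_le_mul_left (h1.trans (mul_one _).symm.le) (Nat.succ_pos _)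
      omega)
    rw [← htdef, ht, hsq, Nat.gcd_mul_right_left, Nat.mul_div_cancel_left _ (Nat.succ_pos _)] at hr1
    have hr : r ≤ 1 := Nat.le_of_mul_le_mul_right (hr1.trans (one_mul _).symm.le) (by omega)
    have : r * r ≤ 1 := le_trans (Nat.mul_le_mul hr hr) le_rfl
    have h3 : q = 3 := by omega
    exact three_case hF B hH h3 (by rw [← hSdef, ← htdef, hS1, ht, h3]; norm_num)
  have hW0 : wSet hF B H ≠ ⊥ := fun h0 => hS1 (by rw [hSW, h0, AddSubgroup.card_bot])
  have ht3 : t ∣ 3 * (q - 1) := card_dvd_of_pow fun l hl => th_real_of_line hF B hA hW0 hl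
  have hSq : S ≤ q := hSW ▸ card_wSet_le hF B hA
  have hq3 : 3 ∣ q + 1 := by
    by_contra h0
    have h1 : t ∣ q - 1 := by
      have h2 := Nat.dvd_gcd ht3 (hsq ▸ htd)
      rwa [Nat.gcd_mul_right, (Nat.Prime.coprime_iff_not_dvd Nat.prime_three).2 h0, one_mul] at h2
    have h3 := Nat.mul_le_mul hSq (Nat.le_of_dvd (by omega) h1)
    have h4 : (q + 1) * (q - 1) ≤ q * (q - 1) := hsq ▸ (hle.trans h3)
    have := Nat.le_of_mul_le_mul_right h4 (by omega)
    omega
  obtain ⟨m, hm⟩ := ht3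
  have hm0 : m ≠ 0 := fun h0 => by rw [h0, mul_zero] at hm; omega
  have hkey : m * (q + 1) ≤ 3 * S := by
    have h1 : m * ((q + 1) * (q - 1)) ≤ S * (3 * (q - 1)) := by
      rw [hm, ← hsq, ← mul_assoc, mul_comm _ m]
      exact Nat.mul_le_mul_left m hle
    rw [← mul_assoc, ← mul_assoc] at h1
    have := Nat.le_of_mul_le_mul_right h1 (by omega)
    linarith
  have hm2 : m ≤ 2 := by
    by_contra! h0
    have := Nat.mul_le_mul_right (q + 1) h0
    omega
  have hSeq : S = q := by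
    by_contra h0
    obtain ⟨p, hp⟩ := CharP.exists F
    haveI : Fact p.Prime := ⟨CharP.char_is_prime F p⟩
    obtain ⟨k, hk0, hk⟩ := exists_pk hF B p
    have hp3 : 3 ≤ p := by
      have h1 := (Fact.out : p.Prime).two_le
      by_contra h2
      have : p = 2 := by omega
      subst this
      exact (Nat.not_even_iff_odd.2 hodd) (hk ▸ Nat.even_pow.2 ⟨even_two, hk0⟩)
    rw [hk, ← pow_mul] at hSd
    obtain ⟨j, -, hj⟩ := (Nat.dvd_prime_pow Fact.out).1 hSd
    have hjk : j < k := (Nat.pow_lt_pow_iff_right (Fact.out : p.Prime).one_lt).1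
      (hj ▸ hk ▸ lt_of_le_of_ne hSq h0)
    have h1 : p * S ≤ q := by
      rw [hj, hk, ← pow_succ']
      exact Nat.pow_le_pow_right (Fact.out : p.Prime).pos hjk
    have h2 := Nat.mul_le_mul_right S hp3
    have h4 : q + 1 ≤ m * (q + 1) := Nat.le_mul_of_pos_left _ (Nat.pos_of_ne_zero hm0)
    omega
  have hnd : ¬ t ∣ q + 1 := fun h0 => by
    have := Nat.le_of_dvd (Nat.succ_pos _) h0
    interval_cases m <;> omega
  obtain ⟨r, hr1, hr2⟩ := torus_bound hF B hodd hH hA hev hnd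
  rw [← htdef] at hr1
  set G := Nat.gcd t (q + 1) with hG
  have hG6 : G ≤ 6 := by
    have h1 : G ∣ 3 * (q + 1) - 3 * (q - 1) := Nat.dvd_sub (dvd_mul_of_dvd_right (Nat.gcd_dvd_right _ _) 3)
      ((Nat.gcd_dvd_left _ _).trans ⟨m, hm⟩)
    rw [show 3 * (q + 1) - 3 * (q - 1) = 6 by omega] at h1
    exact Nat.le_of_dvd (by norm_num) h1
  set f' := t / G with hf'
  have hft : G * f' = t := Nat.mul_div_cancel' (Nat.gcd_dvd_left _ _)
  have ht6 : t ≤ 6 * f' := hft ▸ Nat.mul_le_mul_right f' hG6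
  have hf0 : 0 < f' := by
    rcases Nat.eq_zero_or_pos f' with h0 | h0
    · rw [h0, mul_zero] at ht6; interval_cases m <;> omega
    · exact h0
  interval_cases m
  · omega
  · have hr : r ≤ 2 := Nat.le_of_mul_le_mul_right (hr1.trans (by omega)) hf0
    have : r * r ≤ 4 := le_trans (Nat.mul_le_mul hr hr) le_rfl
    have h11 : q = 11 := by
      obtain ⟨c', hc'⟩ := hq3
      omega
    exact eleven_false hF B hH h11 (by rw [← hSdef, hSeq, h11]) (by rw [← htdef]; omega)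
  · have hr : r ≤ 4 := Nat.le_of_mul_le_mul_right (hr1.trans (by omega)) hf0
    have : r * r ≤ 16 := le_trans (Nat.mul_le_mul hr hr) le_rfl
    have hq35 : q ≤ 35 := by omega
    have h12 : q = 17 ∨ q = 29 := by
      obtain ⟨c, hc⟩ := hev
      obtain ⟨c', hc'⟩ := hq3
      omega
    rcases h12 with h17 | h29
    · exact seventeen_case hF B hH h17 (by
        rw [← hSdef, ← htdef, hSeq, show t = 24 by omega, h17])
    · exact twentynine_case hF B hH h29 (by
        rw [← hSdef, ← htdef, hSeq, show t = 42 by omega, h29])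

end Cfsg.Agent.Transfer.U3Min
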