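import Cfsg.Agent.Lib.Transfer.PSUThreeIndex.Conj
import Cfsg.Agent.Lib.Lie.SUThreeInvolutions
import Mathlib.GroupTheory.Sylow

/-!
A prime outside the line stabilisers: its elements fix no point, so no transvection, reflection or element
of characteristic order normalises the group they generate.
-/

set_option autoImplicit false
set_option linter.unusedSectionVars false
set_option maxHeartbeats 1000000

namespace Cfsg.Agent.Transfer.U3Min

open Matrix Cfsg Cfsg.Agent.Classical Cfsg.Agent.Classical.PSUAut Cfsg.Agent.Fus.UnitN Cfsg.Agent.Lie.SUGen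
  Cfsg.Agent.Lie.SU3Pres

/-- The arithmetic of the Sylow number. -/
theorem exists_sylow_number {G : Type*} [Group G] [Finite G] (r : ℕ) [Fact r.Prime]
    (hr : r ∣ Nat.card G) (hr2 : ¬ r ^ 2 ∣ Nat.card G) :
    ∃ k : ℕ, k = Nat.card (Sylow r G) ∧ k * r ∣ Nat.card G ∧ k % r = 1 ∧ ∀ ℓ a : ℕ, ℓ.Prime →
      (∀ R : Subgroup G, Nat.card R = r → ∀ x : G, orderOf x = ℓ → x ∉ Subgroup.normalizer (R : Set G)) →
      ℓ ^ a ∣ Nat.card G → ℓ ^ a ∣ k := by
  obtain ⟨P⟩ := (inferInstance : Nonempty (Sylow r G))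
  have hP : Nat.card P = r := by
    rw [P.card_eq_multiplicity]
    have h1 : (Nat.card G).factorization r = 1 := by
      have h2 : r ^ 1 ∣ Nat.card G := by rwa [pow_one]
      rw [(Fact.out : r.Prime).pow_dvd_iff_le_factorization Nat.card_pos.ne'] at h2 hr2
      omega
    rw [h1, pow_one]
  set N := Subgroup.normalizer ((P : Subgroup G) : Set G) with hN
  have hk : Nat.card (Sylow r G) = N.index := P.card_eq_index_normalizer
  have hcard : Nat.card N * Nat.card (Sylow r G) = Nat.card G := by rw [hk, Subgroup.card_mul_index]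
  refine ⟨Nat.card (Sylow r G), rfl, ?_, ?_, fun ℓ a hℓ hno hdvd => ?_⟩
  · rw [← hcard, mul_comm (Nat.card N)]
    refine Nat.mul_dvd_mul_left _ ?_
    conv_lhs => rw [← hP]
    exact Subgroup.card_dvd_of_le Subgroup.le_normalizer
  · have h1 := card_sylow_modEq_one r G
    rwa [Nat.ModEq, Nat.one_mod_eq_one.2 (Fact.out : r.Prime).one_lt.ne'] at h1
  · have hndvd : ¬ ℓ ∣ Nat.card N := by
      intro hd
      haveI := Fact.mk hℓ
      obtain ⟨x, hx⟩ := exists_prime_orderOf_dvd_card' ℓ hd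
      exact hno P hP (x : G) (by rw [Subgroup.orderOf_coe, hx]) x.2
    rw [← hcard] at hdvd
    exact ((hℓ.coprime_iff_not_dvd.2 hndvd).pow_left a).dvd_of_dvd_mul_left hdvd

variable {F : Type*} [Field F] [Fintype F] {q : ℕ} (hF : Fintype.card F = q ^ 2)

local notation "cj" => qFrob hF
local notation "h" => hermForm 3 F q
local notation "V" => (Fin 3 → F)

variable {e n f : Fin 3 → F} (B : Frame3 q e n f)

/-- A scalar plus a map of rank one. -/
def RankOne (z : SU 3 F q) : Prop :=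
  ∃ (μ : F) (w : Fin 3 → F) (φ : (Fin 3 → F) →ₗ[F] F), μ ≠ 0 ∧ w ≠ 0 ∧ φ ≠ 0 ∧
    ∀ x, suVal z *ᵥ x = μ • x + φ x • w

include hF B

theorem mem_stab {g x : SU 3 F q}
    (hx : x • (QuotientGroup.mk g : SU 3 F q ⧸ Bor B) = QuotientGroup.mk g) :
    g⁻¹ * x * g ∈ Bor B := by
  rw [show x • (QuotientGroup.mk g : SU 3 F q ⧸ Bor B) = QuotientGroup.mk (x * g) from rfl, eq_comm,
    QuotientGroup.eq, ← mul_assoc] at hx
  exact hx

/-- The isotropic lines orthogonal to `n`. -/
theorem card_line_points :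
    Nat.card {x : SU 3 F q ⧸ Bor B // ∃ g, QuotientGroup.mk g = x ∧ h (suVal g *ᵥ e) n = 0} = q + 1 := by
  classical
  let X := {x : SU 3 F q ⧸ Bor B // ∃ g, QuotientGroup.mk g = x ∧ h (suVal g *ᵥ e) n = 0}
  have hWe : ∀ c : {c : F // c + cj c = 0},
      suVal (Um hF B 0 c.1 * Wm hF B) *ᵥ e = co e n f c.1 0 1 := by
    intro c
    have h3 : suVal (Wm hF B) *ᵥ e = co e n f 0 0 1 := by simpa [co] using W_act hF B 1 0 0
    rw [mulVec_mul, h3, U_act hF B (OK.skew hF c.2)]
    congr 1 <;> simp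
  have hmem : ∀ c : {c : F // c + cj c = 0}, h (suVal (Um hF B 0 c.1 * Wm hF B) *ᵥ e) n = 0 := by
    intro c
    rw [hWe, ← co_n (e := e) (n := n) (f := f)]
    have := B.h_co hF c.1 0 1 0 1 0
    simpa [co] using this
  let ψ : Option {c : F // c + cj c = 0} → X := fun o => o.elim
    ⟨QuotientGroup.mk 1, 1, rfl, by rw [suVal_one', Matrix.one_mulVec]; exact B.en hF⟩
    (fun c => ⟨QuotientGroup.mk (Um hF B 0 c.1 * Wm hF B), _, rfl, hmem c⟩)
  have hψ : Function.Bijective ψ := by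
    constructor
    · rintro (_ | a) (_ | b) hab <;> have h1 := congrArg Subtype.val hab
      · rfl
      · simp only [ψ, Option.elim] at h1
        rw [QuotientGroup.eq, inv_one, one_mul] at h1
        obtain ⟨t, ht⟩ := h1
        rw [hWe, show t • e = co e n f t 0 0 by simp [co]] at ht
        exact absurd (co_inj hF B ht).2.2 one_ne_zero
      · simp only [ψ, Option.elim] at h1
        rw [eq_comm, QuotientGroup.eq, inv_one, one_mul] at h1
        obtain ⟨t, ht⟩ := h1
        rw [hWe, show t • e = co e n f t 0 0 by simp [co]] at ht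
        exact absurd (co_inj hF B ht).2.2 one_ne_zero
      · simp only [ψ, Option.elim] at h1
        rw [QuotientGroup.eq] at h1
        obtain ⟨t, ht⟩ := h1
        have h2 : suVal (Um hF B 0 b.1 * Wm hF B) *ᵥ e = t • (suVal (Um hF B 0 a.1 * Wm hF B) *ᵥ e) := by
          rw [← Matrix.mulVec_smul, ← ht, ← mulVec_mul, mul_inv_cancel_left]
        rw [hWe, hWe, smul_co] at h2
        obtain ⟨k0, -, k2⟩ := co_inj hF B h2
        rw [mul_one] at k2
        rw [← k2, one_mul] at k0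
        exact congrArg some (Subtype.ext k0.symm)
    · rintro ⟨x, g, rfl, hg⟩
      obtain ⟨x, y, z, hv⟩ := exists_co hF B (suVal g *ᵥ e)
      have hy : y = 0 := by
        rw [hv] at hg
        have h2 := B.h_co hF x y z 0 1 0
        rw [co_n, hg] at h2
        simpa using h2.symm
      have hiso : x * cj z + y * cj y + z * cj x = 0 := by rw [← B.h_co hF, ← hv, su_form, B.P.ee]
      subst hy
      by_cases hz : z = 0
      · refine ⟨none, Subtype.ext ?_⟩
        show QuotientGroup.mk 1 = _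
        rw [QuotientGroup.eq, inv_one, one_mul]
        exact ⟨x, by rw [hv, hz]; simp [co]⟩
      · have hz' : cj z ≠ 0 := (map_ne_zero (qFrob hF)).2 hz
        have hc : x / z + cj (x / z) = 0 := by
          rw [map_div₀]; field_simp; rw [map_zero] at hiso; linear_combination hiso
        refine ⟨some ⟨x / z, hc⟩, Subtype.ext ?_⟩
        show QuotientGroup.mk (Um hF B 0 (x / z) * Wm hF B) = _
        rw [QuotientGroup.eq]
        refine ⟨z, ?_⟩
        rw [mulVec_mul, hv,
          show co e n f x 0 z = z • (suVal (Um hF B 0 (x / z) * Wm hF B) *ᵥ e) by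
            rw [hWe ⟨x / z, hc⟩, smul_co]; congr 1 <;> first | ring1 | field_simp,
          Matrix.mulVec_smul, Matrix.mulVec_mulVec, suVal_inv_mul, Matrix.one_mulVec]
  rw [← Nat.card_eq_of_bijective ψ hψ, Finite.card_option]
  congr 1
  exact Cfsg.Agent.Lie.MinIndexUnit.card_skew hF

variable {r : ℕ} [hr : Fact r.Prime] {H : Subgroup (SU 3 F q)}

/-- An element of order `r` has no eigenvector. -/
theorem no_eigen (hstab : ∀ g, ¬ r ∣ Nat.card (conjH H g ⊓ Bor B : Subgroup (SU 3 F q)))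
    (hq1 : ¬ r ∣ q + 1) {x : SU 3 F q} (hxH : x ∈ H) (hx : orderOf x = r) {v : Fin 3 → F} (hv : v ≠ 0)
    {c : F} (hxv : suVal x *ᵥ v = c • v) : False := by
  classical
  have hfixed : ∀ g : SU 3 F q, g⁻¹ * x * g ∈ Bor B → False := by
    intro g hg
    refine hstab g ?_
    have h1 : g⁻¹ * x * g ∈ conjH H g ⊓ Bor B :=
      ⟨mem_conjH.2 (by simpa [mul_assoc] using hxH), hg⟩
    have h2 := Subgroup.orderOf_dvd_natCard _ h1
    rwa [show g⁻¹ * x * g = MulAut.conj g⁻¹ x by simp, MulEquiv.orderOf_eq, hx] at h2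
  by_cases hvv : h v v = 0
  · obtain ⟨g, hg⟩ := su_transitive hF le_rfl B.P.ne_zero B.P.ee hv hvv
    refine hfixed g ⟨c, ?_⟩
    rw [mulVec_mul, mulVec_mul, hg, hxv, ← hg, Matrix.mulVec_smul, Matrix.mulVec_mulVec, suVal_inv_mul,
      Matrix.one_mulVec]
  · obtain ⟨s, hs⟩ := exists_norm hF (a := (h v v)⁻¹) (by rw [map_inv₀, cj_h_self hF])
    set v' := s • v with hv'
    have hv1 : h v' v' = 1 := by
      rw [hv', h_smul_left, h_smul_right hF, ← mul_assoc, hs, inv_mul_cancel₀ hvv]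
    have hxv' : suVal x *ᵥ v' = c • v' := by rw [hv', Matrix.mulVec_smul, hxv, smul_comm]
    obtain ⟨g₁, hg₁⟩ := Cfsg.Agent.Lie.SUThreeInvolutions.exists_move hF hv1
    obtain ⟨g₂, hg₂⟩ := Cfsg.Agent.Lie.SUThreeInvolutions.exists_move hF B.nn
    set g := g₁ * g₂⁻¹ with hgd
    have hgn : suVal g *ᵥ n = v' := by
      rw [hgd, mulVec_mul]
      nth_rw 1 [← hg₂]
      rw [Matrix.mulVec_mulVec _ (suVal g₂⁻¹), suVal_inv_mul, Matrix.one_mulVec, hg₁]
    set y := g⁻¹ * x * g with hy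
    have hyn : suVal y *ᵥ n = c • n := by
      rw [hy, mulVec_mul, mulVec_mul, hgn, hxv', ← hgn, Matrix.mulVec_smul, Matrix.mulVec_mulVec,
        suVal_inv_mul, Matrix.one_mulVec]
    have hc0 : c ≠ 0 := fun h0 => hv (su_injective x (by rw [hxv, h0, zero_smul]))
    let X := {x : SU 3 F q ⧸ Bor B // ∃ g, QuotientGroup.mk g = x ∧ h (suVal g *ᵥ e) n = 0}
    let Y := Subgroup.zpowers y
    have hY : ∀ k : Y, ∃ d : F, d ≠ 0 ∧ suVal (k : SU 3 F q) *ᵥ n = d • n := by
      rintro ⟨k, hk⟩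
      let St : Subgroup (SU 3 F q) :=
        { carrier := {s | ∃ d : F, d ≠ 0 ∧ suVal s *ᵥ n = d • n}
          one_mem' := ⟨1, one_ne_zero, by rw [suVal_one', Matrix.one_mulVec, one_smul]⟩
          mul_mem' := by
            rintro s t ⟨a, ha, has⟩ ⟨b, hb, hbt⟩
            exact ⟨b * a, mul_ne_zero hb ha, by rw [mulVec_mul, hbt, Matrix.mulVec_smul, has, smul_smul]⟩
          inv_mem' := by
            rintro s ⟨a, ha, has⟩
            refine ⟨a⁻¹, inv_ne_zero ha, ?_⟩
            rw [eq_comm, inv_smul_eq_iff₀ ha, ← Matrix.mulVec_smul, ← has, Matrix.mulVec_mulVec,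
              suVal_inv_mul, Matrix.one_mulVec] }
      exact (Subgroup.zpowers_le.2 (show y ∈ St from ⟨c, hc0, hyn⟩) : Y ≤ St) hk
    letI : MulAction Y X :=
      { smul := fun k z => ⟨(k : SU 3 F q) • z.1, by
          obtain ⟨g, hg, hgn⟩ := z.2
          refine ⟨(k : SU 3 F q) * g, by rw [← hg]; rfl, ?_⟩
          obtain ⟨d, hd, hkn⟩ := hY k
          have h1 : h (suVal (k : SU 3 F q) *ᵥ (suVal g *ᵥ e)) (suVal (k : SU 3 F q) *ᵥ n) = 0 := by
            rw [su_form]; exact hgn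
          rw [hkn, h_smul_right hF] at h1
          rw [mulVec_mul]
          exact (mul_eq_zero.1 h1).resolve_left ((map_ne_zero (qFrob hF)).2 hd)⟩
        one_smul := fun z => Subtype.ext (one_smul _ z.1)
        mul_smul := fun a b z => Subtype.ext (mul_smul (a : SU 3 F q) (b : SU 3 F q) z.1) }
    have hyr : orderOf y = r := by
      rw [show y = MulAut.conj g⁻¹ x by simp [hy], MulEquiv.orderOf_eq, hx]
    have hYp : IsPGroup r Y := IsPGroup.of_card (n := 1) (by rw [Nat.card_zpowers, hyr, pow_one])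
    have hmod := hYp.card_modEq_card_fixedPoints (p := r) X
    have h0 : Nat.card (MulAction.fixedPoints Y X) = 0 := by
      rw [Nat.card_eq_zero]
      refine Or.inl ⟨fun z => ?_⟩
      obtain ⟨⟨z, k, rfl, hk⟩, hz⟩ := z
      have h1 := mem_stab hF B (congrArg Subtype.val (hz ⟨y, Subgroup.mem_zpowers y⟩))
      refine hfixed (g * k) ?_
      rw [show (g * k)⁻¹ * x * (g * k) = k⁻¹ * (g⁻¹ * x * g) * k by group]
      exact h1
    rw [h0, show Nat.card X = q + 1 from card_line_points hF B] at hmod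
    exact hq1 (Nat.modEq_zero_iff_dvd.1 hmod)

/-- No element of rank one normalises a group of order `r`. -/
theorem not_normalize (hstab : ∀ g, ¬ r ∣ Nat.card (conjH H g ⊓ Bor B : Subgroup (SU 3 F q)))
    (hq1 : ¬ r ∣ q + 1) {R : Subgroup H} (hR : Nat.card R = r) {z : H}
    (hz : RankOne (z : SU 3 F q)) : z ∉ Subgroup.normalizer (R : Set H) := by
  classical
  intro hzN
  obtain ⟨μ, w, φ, hμ, hw, hφ, hzx⟩ := hz
  obtain ⟨x, hx⟩ := exists_prime_orderOf_dvd_card' r (dvd_of_eq hR.symm)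
  set a : SU 3 F q := ((x : H) : SU 3 F q) with ha
  have haord : orderOf a = r := by rw [ha, Subgroup.orderOf_coe, Subgroup.orderOf_coe, hx]
  set z' : SU 3 F q := (z : SU 3 F q) with hz'
  obtain ⟨m, hm⟩ : ∃ m, φ m ≠ 0 := by
    by_contra! h0
    exact hφ (LinearMap.ext h0)
  by_cases hcomm : z' * a = a * z'
  · -- the centre is an eigenvector
    have h1 := congrArg (fun s => suVal s *ᵥ m) hcomm
    simp only [mulVec_mul, hzx, Matrix.mulVec_add, Matrix.mulVec_smul] at h1
    have h2 : φ m • (suVal a *ᵥ w) = φ (suVal a *ᵥ m) • w := (add_left_cancel h1).symm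
    refine no_eigen hF B hstab hq1 (x : H).2 haord hw (c := (φ m)⁻¹ * φ (suVal a *ᵥ m)) ?_
    rw [mul_smul, ← h2, inv_smul_smul₀ hm]
  · set ρ := z' * a * z'⁻¹ * a⁻¹ with hρ
    have hρR : (z * (x : H) * z⁻¹ * (x : H)⁻¹) ∈ R :=
      mul_mem ((Subgroup.mem_normalizer_iff.1 hzN _).1 x.2) (inv_mem x.2)
    have hρ1 : ρ ≠ 1 := fun h0 => hcomm (by
      rw [hρ, mul_inv_eq_one, mul_inv_eq_iff_eq_mul] at h0; exact h0)
    have hρord : orderOf ρ = r := by
      have h3 : orderOf (⟨_, hρR⟩ : R) ∣ r := hR ▸ orderOf_dvd_natCard _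
      rcases (Nat.dvd_prime hr.out).1 h3 with h4 | h4
      · refine absurd ?_ hρ1
        have h5 := congrArg (fun y : R => ((y : H) : SU 3 F q)) (orderOf_eq_one_iff.1 h4)
        simpa [hρ, hz', ha] using h5
      · rw [← h4, ← Subgroup.orderOf_coe (⟨_, hρR⟩ : R)]
        exact Subgroup.orderOf_coe (z * (x : H) * z⁻¹ * (x : H)⁻¹)
    -- a common fixed vector
    let L : (Fin 3 → F) →ₗ[F] F × F := φ.prod (φ.comp (Matrix.mulVecLin (suVal a⁻¹)))
    obtain ⟨v, hv, hv0⟩ : ∃ v ∈ LinearMap.ker L, v ≠ 0 := Submodule.exists_mem_ne_zero_of_ne_bot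
      (LinearMap.ker_ne_bot_of_finrank_lt (by simp))
    rw [LinearMap.mem_ker] at hv
    have hv1 : φ v = 0 := congrArg Prod.fst hv
    have hv2 : φ (suVal a⁻¹ *ᵥ v) = 0 := congrArg Prod.snd hv
    have h3 : suVal z'⁻¹ *ᵥ (suVal a⁻¹ *ᵥ v) = μ⁻¹ • (suVal a⁻¹ *ᵥ v) := by
      rw [eq_comm, inv_smul_eq_iff₀ hμ, ← Matrix.mulVec_smul]
      conv_rhs => rw [show μ • (suVal a⁻¹ *ᵥ v) = suVal z' *ᵥ (suVal a⁻¹ *ᵥ v) by rw [hzx, hv2, zero_smul, add_zero]]
      rw [Matrix.mulVec_mulVec _ (suVal z'⁻¹), suVal_inv_mul, Matrix.one_mulVec]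
    refine no_eigen hF B hstab hq1 (x := ρ)
      (show ρ ∈ H from (z * (x : H) * z⁻¹ * (x : H)⁻¹).2) hρord hv0 (c := 1) ?_
    rw [hρ, mulVec_mul, mulVec_mul, mulVec_mul, h3, Matrix.mulVec_smul, Matrix.mulVec_mulVec _ (suVal a),
      suVal_mul_inv, Matrix.one_mulVec, Matrix.mulVec_smul, hzx, hv1, zero_smul, add_zero, smul_smul,
      inv_mul_cancel₀ hμ]

/-- An element whose difference from the identity squares to zero. -/
theorem rankOne_of_sq_zero {z : SU 3 F q} (hz1 : z ≠ 1)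
    (hz : ∀ x, suVal z *ᵥ (suVal z *ᵥ x - x) = suVal z *ᵥ x - x) : RankOne z := by
  classical
  let N : (Fin 3 → F) →ₗ[F] (Fin 3 → F) := Matrix.mulVecLin (suVal z) - LinearMap.id
  have hN : ∀ x, N x = suVal z *ᵥ x - x := fun x => rfl
  have hle : LinearMap.range N ≤ LinearMap.ker N := by
    rintro _ ⟨x, rfl⟩
    rw [LinearMap.mem_ker, hN, hN, hz, sub_self]
  have hne : LinearMap.range N ≠ ⊥ := by
    intro h0
    refine hz1 (suVal_ext (Matrix.ext_iff_mulVec.2 fun x => ?_))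
    have : N x = 0 := by rw [← Submodule.mem_bot F, ← h0]; exact ⟨x, rfl⟩
    rw [suVal_one', Matrix.one_mulVec]
    exact sub_eq_zero.1 this
  have hrk : Module.finrank F (LinearMap.range N) = 1 := by
    have h1 := LinearMap.finrank_range_add_finrank_ker N
    have h2 := Submodule.finrank_mono hle
    have h3 : Module.finrank F (LinearMap.range N) ≠ 0 := fun h0 => hne (Submodule.finrank_eq_zero.1 h0)
    simp at h1
    omega
  obtain ⟨w, hwN, hw0⟩ := Submodule.exists_mem_ne_zero_of_ne_bot hne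
  obtain ⟨u, hu⟩ := exists_h_eq hF hw0 1
  let φ : (Fin 3 → F) →ₗ[F] F :=
    { toFun := fun x => h (N x) u
      map_add' := fun x y => by rw [map_add, h_add_left]
      map_smul' := fun c x => by rw [map_smul, h_smul_left]; rfl }
  have key : ∀ x, N x = φ x • w := fun x => by
    obtain ⟨c, hc⟩ := exists_smul_eq_of_finrank_eq_one hrk (x := ⟨w, hwN⟩)
      (fun h0 => hw0 (congrArg Subtype.val h0)) ⟨N x, x, rfl⟩
    have hc' : c • w = N x := congrArg Subtype.val hc
    have hφ' : φ x = c := by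
      show h (N x) u = c
      rw [← hc', h_smul_left, hu, mul_one]
    rw [hφ', hc']
  refine ⟨1, w, φ, one_ne_zero, hw0, ?_, fun x => ?_⟩
  · intro h0
    obtain ⟨x, hx⟩ := hwN
    rw [key, h0, LinearMap.zero_apply, zero_smul] at hx
    exact hw0 hx.symm
  · rw [← key, hN, one_smul, add_sub_cancel]

omit r hr in
theorem rankOne_transvection {c : F} (hc : c + cj c = 0) (hc0 : c ≠ 0) : RankOne (Um hF B 0 c) := by
  refine rankOne_of_sq_zero hF B (fun h0 => hc0 (U_eq_one hF B (OK.skew hF hc) h0).2) fun v => ?_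
  obtain ⟨x, y, z, rfl⟩ := exists_co hF B v
  rw [U_act hF B (OK.skew hF hc)]
  have e1 : co e n f (x - cj 0 * y + c * z) (y + 0 * z) z - co e n f x y z = co e n f (c * z) 0 0 := by
    simp only [co, map_zero]; module
  rw [e1, U_act hF B (OK.skew hF hc)]
  congr 1 <;> simp

/-- Every involution is a scalar plus a map of rank one. -/
theorem rankOne_involution {z : SU 3 F q} (hz1 : z ≠ 1) (hz : z * z = 1) : RankOne z := by
  by_cases h2 : (2 : F) = 0
  · refine rankOne_of_sq_zero hF B hz1 fun x => ?_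
    rw [Matrix.mulVec_sub, ← mulVec_mul, hz, suVal_one', Matrix.one_mulVec]
    funext i
    simp only [Pi.sub_apply]
    linear_combination (x i - (suVal z *ᵥ x) i) * h2
  · obtain ⟨v, rfl⟩ := Cfsg.Agent.Lie.SUThreeInvolutions.exists_unit hF h2 hz1 hz
    let φ : (Fin 3 → F) →ₗ[F] F :=
      { toFun := fun x => 2 * h x v.1
        map_add' := fun x y => by rw [h_add_left, mul_add]
        map_smul' := fun c x => by rw [h_smul_left, RingHom.id_apply, smul_eq_mul]; ring }
    refine ⟨-1, v.1, φ, neg_ne_zero.2 one_ne_zero,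
      fun h0 => by have := v.2; rw [h0, h_zero_left] at this; exact zero_ne_one this, fun h0 => h2 ?_,
      fun x => ?_⟩
    · have h1 := LinearMap.congr_fun h0 v.1
      simpa [φ, v.2] using h1
    · rw [Cfsg.Agent.Lie.SUThreeInvolutions.suVal_reflSU, Cfsg.Agent.Lie.SUThreeInvolutions.refl_mulVec]
      simp only [φ, LinearMap.coe_mk, AddHom.coe_mk, neg_smul, one_smul]
      abel

/-- An element of characteristic order does not normalise a group of order `r`. -/
theorem not_normalize_p {p : ℕ} [Fact p.Prime] [CharP F p] (hpr : ¬ p ∣ r - 1)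
    (hstab : ∀ g, ¬ r ∣ Nat.card (conjH H g ⊓ Bor B : Subgroup (SU 3 F q)))
    {R : Subgroup H} (hR : Nat.card R = r) {u : H} (hu : orderOf u = p) :
    u ∉ Subgroup.normalizer (R : Set H) := by
  classical
  intro huN
  obtain ⟨x, hx⟩ := exists_prime_orderOf_dvd_card' r (dvd_of_eq hR.symm)
  have hgen : Subgroup.zpowers x = ⊤ := Subgroup.eq_top_of_card_eq _ (by rw [Nat.card_zpowers, hx, hR])
  set a : H := (x : H) with ha
  have haord : orderOf a = r := by rw [ha, Subgroup.orderOf_coe, hx]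
  have hconjR : u * a * u⁻¹ ∈ R := (Subgroup.mem_normalizer_iff.1 huN _).1 x.2
  obtain ⟨j, hj⟩ : ∃ j : ℕ, a ^ j = u * a * u⁻¹ := by
    have h1 : (⟨_, hconjR⟩ : R) ∈ Subgroup.zpowers x := hgen ▸ Subgroup.mem_top _
    obtain ⟨j, hj⟩ := mem_powers_iff_mem_zpowers.2 h1
    exact ⟨j, congrArg Subtype.val hj⟩
  have hpow : ∀ k : ℕ, u ^ k * a * (u ^ k)⁻¹ = a ^ (j ^ k) := by
    intro k
    induction k with
    | zero => simp
    | succ k ih =>
      rw [show u ^ (k + 1) * a * (u ^ (k + 1))⁻¹ = u * (u ^ k * a * (u ^ k)⁻¹) * u⁻¹ by group, ih,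
        ← conj_pow, ← hj, ← pow_mul, pow_succ']
  have hj1 : (j : ZMod r) = 1 := by
    have h1 : a ^ (j ^ p) = a := by rw [← hpow p, ← hu, pow_orderOf_eq_one]; simp
    have h2 : ((j : ZMod r)) ^ p = 1 := by
      have h3 : j ^ p ≡ 1 [MOD orderOf a] := pow_eq_pow_iff_modEq.1 (h1.trans (pow_one a).symm)
      rw [haord, ← ZMod.natCast_eq_natCast_iff] at h3
      simpa using h3
    have hj0 : (j : ZMod r) ≠ 0 := fun h0 => by
      rw [h0, zero_pow (Fact.out : p.Prime).ne_zero] at h2; exact zero_ne_one h2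
    have h4 := ZMod.pow_card_sub_one_eq_one hj0
    have h5 := pow_gcd_eq_one.2 ⟨h2, h4⟩
    rwa [((Fact.out : p.Prime).coprime_iff_not_dvd.2 hpr).gcd_eq_one, pow_one] at h5
  have hcomm : u * a = a * u := by
    have h1 : a ^ j = a := by
      conv_rhs => rw [← pow_one a]
      rw [pow_eq_pow_iff_modEq, haord, ← ZMod.natCast_eq_natCast_iff, hj1, Nat.cast_one]
    rw [hj] at h1
    exact mul_inv_eq_iff_eq_mul.1 h1
  -- the fixed line of the element
  let Y := Subgroup.zpowers (u : SU 3 F q)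
  have hYp : IsPGroup p Y := IsPGroup.of_card (n := 1) (by rw [Nat.card_zpowers, Subgroup.orderOf_coe, hu, pow_one])
  have hmod := hYp.card_modEq_card_fixedPoints (p := p) (SU 3 F q ⧸ Bor B)
  have hne : Nat.card (MulAction.fixedPoints Y (SU 3 F q ⧸ Bor B)) ≠ 0 := by
    intro h0
    rw [h0, card_points hF B, Nat.modEq_zero_iff_dvd] at hmod
    obtain ⟨k, hk⟩ := Cfsg.Agent.Classical.UnitMult.q_eq_pow (p := p) hF
    have hk0 : k ≠ 0 := fun hk0 => by have := two_le_q hF; rw [hk, hk0, pow_zero] at this; omega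
    have h1 : p ∣ q ^ 3 := (dvd_pow_self p hk0).trans (hk ▸ dvd_pow_self q three_ne_zero)
    exact (Fact.out : p.Prime).not_dvd_one ((Nat.dvd_add_right h1).1 hmod)
  obtain ⟨⟨⟨P, hP⟩⟩, -⟩ := Nat.card_ne_zero.1 hne
  obtain ⟨g, rfl⟩ := QuotientGroup.mk_surjective P
  have hfix := mem_stab hF B (hP ⟨(u : SU 3 F q), Subgroup.mem_zpowers _⟩)
  have hU : g⁻¹ * (u : SU 3 F q) * g ∈ Uni hF B := by
    rw [mem_Uni_iff hF B]
    have hp1 : (g⁻¹ * (u : SU 3 F q) * g) ^ p = 1 := by
      rw [show g⁻¹ * (u : SU 3 F q) * g = MulAut.conj g⁻¹ (u : SU 3 F q) by simp, ← map_pow,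
        ← SubgroupClass.coe_pow, ← hu, pow_orderOf_eq_one]
      simp
    have h1 := chi_spec hF B ⟨_, hfix⟩
    have h2 : chi B ⟨_, hfix⟩ = 1 := by
      have h3 : chi B ⟨_, hfix⟩ ^ p = 1 := by
        rw [← map_pow]
        convert map_one (chi B) using 2
        exact Subtype.ext hp1
      exact frobenius_inj F p (by rw [frobenius_def, frobenius_def, h3, one_pow])
    rwa [h2, one_smul] at h1
  have hu1 : g⁻¹ * (u : SU 3 F q) * g ≠ 1 := by
    intro h0
    have h1 : (u : SU 3 F q) = 1 := by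
      have := congrArg (fun s => g * s * g⁻¹) h0; simpa [mul_assoc] using this
    rw [OneMemClass.coe_eq_one] at h1
    rw [h1, orderOf_one] at hu
    exact (Fact.out : p.Prime).ne_one hu.symm
  set k := g⁻¹ * ((a : SU 3 F q) * g) with hk
  have hkB : k ∈ Bor B := fixed_Uni hF B hU hu1 (by
    have h1 : ((u : SU 3 F q)) * (a : SU 3 F q) = (a : SU 3 F q) * (u : SU 3 F q) := congrArg Subtype.val hcomm
    rw [hk, show (g⁻¹ * ((a : SU 3 F q) * g))⁻¹ * (g⁻¹ * (u : SU 3 F q) * g) * (g⁻¹ * ((a : SU 3 F q) * g)) =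
      g⁻¹ * ((a : SU 3 F q)⁻¹ * ((u : SU 3 F q) * (a : SU 3 F q))) * g by group, h1, inv_mul_cancel_left]
    exact hfix)
  refine hstab g ?_
  have h2 := Subgroup.orderOf_dvd_natCard (conjH H g ⊓ Bor B)
    (x := k) ⟨mem_conjH.2 (by rw [hk]; simpa [mul_assoc] using a.2), hkB⟩
  rwa [show k = MulAut.conj g⁻¹ (a : SU 3 F q) by simp [hk, mul_assoc], MulEquiv.orderOf_eq,
    Subgroup.orderOf_coe, haord] at h2

end Cfsg.Agent.Transfer.U3Min
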